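import Mathlib.AlgebraicGeometry.Morphisms.UniversallyOpen
import Mathlib.AlgebraicGeometry.Morphisms.Etale
import Mathlib.AlgebraicGeometry.Morphisms.ClosedImmersion
import Mathlib.FieldTheory.IsAlgClosed.AlgebraicClosure
import Groth.Agent.Lib.EtSite.Push
import Groth.Prelude.Def_SGA4b

/-!
# Charts of base changes of morphisms to discrete schemes
-/

set_option autoImplicit false

universe u

open CategoryTheory CategoryTheory.Limits AlgebraicGeometry Opposite TensorProduct

noncomputable section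

namespace Groth.Agent.Lib.EtDiscrete

/-- A surjective closed immersion is universally open. -/
theorem universallyOpen_of_surjective_closedImmersion {X Y : Scheme.{u}} (f : X ⟶ Y)
    [IsClosedImmersion f] [Surjective f] : UniversallyOpen f := by
  have h : (@IsClosedImmersion ⊓ @Surjective : MorphismProperty Scheme.{u}) f := ⟨‹_›, ‹_›⟩
  refine ⟨fun X' Y' i₁ i₂ f' hsq => ?_⟩
  have hc : IsClosedImmersion f' := MorphismProperty.of_isPullback hsq.flip ‹IsClosedImmersion f›
  have hs : Surjective f' := MorphismProperty.of_isPullback hsq.flip ‹Surjective f›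
  exact Topology.IsOpenEmbedding.isOpenMap
    ⟨f'.isClosedEmbedding.isEmbedding, by rw [Set.range_eq_univ.2 f'.surjective]; exact isOpen_univ⟩

/-- The map to the reduction of a one-point affine scheme is universally open on every field point. -/
theorem universallyOpen_field_point {Λ k Ω : Type u} [CommRing Λ] [Field k] [Algebra Λ k] [Field Ω]
    [Algebra Λ Ω] [Algebra k Ω] [IsScalarTower Λ k Ω] [Subsingleton (PrimeSpectrum Λ)]
    (hsurj : Function.Surjective (algebraMap Λ k)) :
    UniversallyOpen (Spec.map (CommRingCat.ofHom (algebraMap Λ Ω))) := by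
  have : IsClosedImmersion (Spec.map (CommRingCat.ofHom (algebraMap Λ k))) :=
    IsClosedImmersion.spec_of_surjective _ hsurj
  have : Surjective (Spec.map (CommRingCat.ofHom (algebraMap Λ k))) :=
    ⟨fun y => ⟨default, @Subsingleton.elim (PrimeSpectrum Λ) _ _ y⟩⟩
  have := universallyOpen_of_surjective_closedImmersion (Spec.map (CommRingCat.ofHom (algebraMap Λ k)))
  have : IsIntegral (Spec (CommRingCat.of k)) := inferInstance
  have : Subsingleton ↥(Spec (CommRingCat.of k)) := inferInstanceAs (Subsingleton (PrimeSpectrum k))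
  have : UniversallyOpen (Spec.map (CommRingCat.ofHom (algebraMap k Ω))) := inferInstance
  rw [IsScalarTower.algebraMap_eq Λ k Ω, CommRingCat.ofHom_comp, Spec.map_comp]
  infer_instance

variable {X Y X₁ Y₁ : Scheme.{u}} {g : X ⟶ Y} {g₁ : X₁ ⟶ Y₁} {b' : X₁ ⟶ X} {b : Y₁ ⟶ Y}

/-- Around every point of the base change of a morphism to a discrete scheme there is a chart
`Spec (R ⊗ Ω) ⟶ X₁` over an affine open `Spec R` of the base. -/
theorem exists_chart [DiscreteTopology Y] (sq : IsPullback b' g₁ g b) (x : X₁) :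
    ∃ (Λ k R : Type u) (_ : CommRing Λ) (_ : Field k) (_ : Algebra Λ k)
      (_ : Algebra Λ (AlgebraicClosure (X₁.residueField x)))
      (_ : Algebra k (AlgebraicClosure (X₁.residueField x)))
      (_ : IsScalarTower Λ k (AlgebraicClosure (X₁.residueField x)))
      (_ : CommRing R) (_ : Algebra Λ R) (αR : R →ₐ[Λ] AlgebraicClosure (X₁.residueField x))
      (iR : Spec (CommRingCat.of R) ⟶ Y₁)
      (r : Spec (CommRingCat.of (R ⊗[Λ] AlgebraicClosure (X₁.residueField x))) ⟶ X₁),
      Function.Surjective (algebraMap Λ k) ∧ IsOpenImmersion iR ∧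
      r ≫ g₁ = Spec.map (CommRingCat.ofHom
        (Algebra.TensorProduct.includeLeftRingHom : R →+* R ⊗[Λ] AlgebraicClosure (X₁.residueField x))) ≫ iR ∧
      UniversallyOpen (Spec.map (CommRingCat.ofHom
        (Algebra.TensorProduct.includeLeftRingHom : R →+* R ⊗[Λ] AlgebraicClosure (X₁.residueField x)))) ∧
      Spec.map (CommRingCat.ofHom (Algebra.TensorProduct.productMap αR
        (AlgHom.id Λ (AlgebraicClosure (X₁.residueField x)))).toRingHom) ≫ r =
          EtSite.Push.algPoint X₁ x := by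
  let y := b.base (g₁.base x)
  let U : Y.Opens := ⟨{y}, isOpen_discrete _⟩
  have hU : IsAffineOpen U := by
    obtain ⟨U', hU', hy, hle⟩ := exists_isAffineOpen_mem_and_subset (U := U) (show y ∈ U from rfl)
    have : U' = U := le_antisymm hle fun z hz => by rw [show z = y from hz]; exact hy
    exact this ▸ hU'
  obtain ⟨V, hV, hxV, hVU⟩ :=
    exists_isAffineOpen_mem_and_subset (U := b ⁻¹ᵁ U) (show g₁.base x ∈ b ⁻¹ᵁ U from rfl)
  let Λ := Γ(Y, U)
  have : Subsingleton (PrimeSpectrum Λ) := ⟨fun p q => hU.fromSpec.isOpenEmbedding.injective (by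
    have h : ∀ p, hU.fromSpec.base p = y := fun p => by
      have : hU.fromSpec.base p ∈ (U : Set Y) := hU.range_fromSpec ▸ Set.mem_range_self p
      exact this
    rw [h, h])⟩
  have hne : Nonempty (PrimeSpectrum Λ) := ⟨hU.primeIdealOf ⟨y, rfl⟩⟩
  let p₀ := hne.some
  have hmax : (nilradical Λ).IsMaximal := by
    have : nilradical Λ = p₀.asIdeal := le_antisymm (nilradical_le_prime _) (fun a ha => by
      rw [nilradical_eq_sInf]
      exact Ideal.mem_sInf.2 fun {J} hJ => by
        have := Subsingleton.elim (⟨J, hJ⟩ : PrimeSpectrum Λ) p₀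
        rw [show J = p₀.asIdeal from congrArg PrimeSpectrum.asIdeal this]
        exact ha)
    obtain ⟨M, hM, hle⟩ := Ideal.exists_le_maximal p₀.asIdeal p₀.isPrime.ne_top
    rw [this]
    rwa [show p₀.asIdeal = M from
      congrArg PrimeSpectrum.asIdeal (Subsingleton.elim p₀ ⟨M, hM.isPrime⟩)]
  letI : Field (Λ ⧸ nilradical Λ) := Ideal.Quotient.field _
  let Ω := AlgebraicClosure (X₁.residueField x)
  let ξ₀ := EtSite.Push.algPoint X₁ x
  let R := Γ(Y₁, V)
  let φ : Λ ⟶ R := b.appLE U V hVU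
  letI : Algebra Λ R := φ.hom.toAlgebra
  have hrange : Set.range (ξ₀ ≫ g₁).base ⊆ Set.range hV.fromSpec.base := by
    rintro _ ⟨p, rfl⟩
    rw [hV.range_fromSpec, Scheme.Hom.comp_apply, EtSite.Push.algPoint_apply]
    exact hxV
  let ηR := IsOpenImmersion.lift hV.fromSpec (ξ₀ ≫ g₁) hrange
  let α₀ : R ⟶ CommRingCat.of Ω := Spec.preimage ηR
  letI : Algebra Λ Ω := (φ ≫ α₀).hom.toAlgebra
  have hnil : ∀ a ∈ nilradical Λ, algebraMap Λ Ω a = 0 := fun a ha =>
    ((mem_nilradical.1 ha).map (algebraMap Λ Ω)).eq_zero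
  letI : Algebra (Λ ⧸ nilradical Λ) Ω :=
    (Ideal.Quotient.lift (nilradical Λ) (algebraMap Λ Ω) hnil).toAlgebra
  haveI : IsScalarTower Λ (Λ ⧸ nilradical Λ) Ω := IsScalarTower.of_algebraMap_eq fun _ => rfl
  let αR : R →ₐ[Λ] Ω := { α₀.hom with commutes' := fun _ => rfl }
  let vv : Spec (CommRingCat.of (R ⊗[Λ] Ω)) ⟶ Spec R :=
    Spec.map (CommRingCat.ofHom (Algebra.TensorProduct.includeLeftRingHom : R →+* R ⊗[Λ] Ω))
  let p2 : Spec (CommRingCat.of (R ⊗[Λ] Ω)) ⟶ Spec (CommRingCat.of Ω) :=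
    Spec.map (CommRingCat.ofHom
      (Algebra.TensorProduct.includeRight : Ω →ₐ[Λ] R ⊗[Λ] Ω).toRingHom)
  have hη : Spec.map α₀ ≫ hV.fromSpec = ξ₀ ≫ g₁ := by
    rw [Spec.map_preimage]
    exact IsOpenImmersion.lift_fac _ _ _
  have hcomm : (p2 ≫ ξ₀ ≫ b') ≫ g = (vv ≫ hV.fromSpec) ≫ b := by
    have e : (ξ₀ ≫ b') ≫ g = Spec.map α₀ ≫ hV.fromSpec ≫ b := by
      rw [Category.assoc, sq.w, ← Category.assoc, ← hη, Category.assoc]
    rw [Category.assoc, e, Category.assoc, ← IsAffineOpen.SpecMap_appLE_fromSpec b hU hV hVU,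
      ← Category.assoc (Spec.map α₀), ← Spec.map_comp, ← Category.assoc, ← Category.assoc,
      ← Spec.map_comp, ← Spec.map_comp]
    congr 2
    ext a
    change (1 : R) ⊗ₜ[Λ] algebraMap Λ Ω a = algebraMap Λ R a ⊗ₜ[Λ] (1 : Ω)
    rw [Algebra.algebraMap_eq_smul_one, Algebra.algebraMap_eq_smul_one, TensorProduct.smul_tmul]
  refine ⟨Λ, Λ ⧸ nilradical Λ, R, inferInstance, inferInstance, inferInstance, inferInstance,
    inferInstance, inferInstance, inferInstance, inferInstance, αR, hV.fromSpec,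
    sq.lift (p2 ≫ ξ₀ ≫ b') (vv ≫ hV.fromSpec) hcomm, Ideal.Quotient.mk_surjective, inferInstance,
    sq.lift_snd _ _ _, ?_, ?_⟩
  · have := universallyOpen_field_point (k := Λ ⧸ nilradical Λ) (Ω := Ω)
      (Λ := Λ) Ideal.Quotient.mk_surjective
    rw [show Spec.map (CommRingCat.ofHom
      (Algebra.TensorProduct.includeLeftRingHom : R →+* R ⊗[Λ] Ω)) =
        (pullbackSpecIso Λ R Ω).inv ≫ pullback.fst _ _ from (pullbackSpecIso_inv_fst Λ R Ω).symm]
    infer_instance
  · apply sq.hom_ext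
    · rw [Category.assoc, sq.lift_fst, ← Category.assoc, ← Spec.map_comp]
      rw [show (CommRingCat.ofHom (Algebra.TensorProduct.includeRight : Ω →ₐ[Λ] R ⊗[Λ] Ω).toRingHom ≫
          CommRingCat.ofHom (Algebra.TensorProduct.productMap αR (AlgHom.id Λ Ω)).toRingHom) =
          𝟙 (CommRingCat.of Ω) from CommRingCat.hom_ext (RingHom.ext fun a => by simp),
        Spec.map_id, Category.id_comp]
    · rw [Category.assoc, sq.lift_snd, ← Category.assoc, ← Spec.map_comp]
      rw [show (CommRingCat.ofHom (Algebra.TensorProduct.includeLeftRingHom : R →+* R ⊗[Λ] Ω) ≫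
          CommRingCat.ofHom (Algebra.TensorProduct.productMap αR (AlgHom.id Λ Ω)).toRingHom) =
          α₀ from CommRingCat.hom_ext (RingHom.ext fun a => by simp; rfl)]
      exact hη

/-- Base changes of surjections onto discrete schemes are universally submersive. -/
theorem isUnivSubmersive [DiscreteTopology Y] [Surjective g] (sq : IsPullback b' g₁ g b) :
    EtDesc.IsUnivSubmersive g₁ := by
  intro T h
  have sq' : IsPullback (pullback.fst g₁ h ≫ b') (pullback.snd g₁ h) g (h ≫ b) :=
    (IsPullback.of_hasPullback g₁ h).paste_horiz sq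
  have hs : Function.Surjective (pullback.snd g₁ h).base :=
    (MorphismProperty.of_isPullback sq' ‹Surjective g› : Surjective (pullback.snd g₁ h)).surj
  refine ⟨hs, IsOpenMap.isQuotientMap ?_ (pullback.snd g₁ h).continuous hs⟩
  rw [isOpenMap_iff_nhds_le]
  intro z s hs'
  obtain ⟨O, hO, hOo, hzO⟩ := mem_nhds_iff.1 (Filter.mem_map.1 hs')
  obtain ⟨Λ, k, R, _, _, _, _, _, _, _, _, αR, iR, r, -, _, hw, hv, hζ⟩ := exists_chart sq' z
  let vv := Spec.map (CommRingCat.ofHom
    (Algebra.TensorProduct.includeLeftRingHom : R →+* R ⊗[Λ] AlgebraicClosure ((pullback g₁ h).residueField z)))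
  let ζ : Spec (CommRingCat.of _) ⟶ _ := Spec.map (CommRingCat.ofHom (Algebra.TensorProduct.productMap αR
    (AlgHom.id Λ (AlgebraicClosure ((pullback g₁ h).residueField z)))).toRingHom)
  refine mem_nhds_iff.2 ⟨(vv ≫ iR).base '' (r.base ⁻¹' O), ?_,
    (iR.isOpenEmbedding.isOpenMap.comp vv.isOpenMap) _ (hOo.preimage r.continuous),
    ⟨ζ.base default, ?_, ?_⟩⟩
  · rintro _ ⟨w, hw', rfl⟩
    rw [← hw, Scheme.Hom.comp_apply]
    exact hO hw'
  · change (ζ ≫ r).base default ∈ O
    rw [show ζ ≫ r = _ from hζ, EtSite.Push.algPoint_apply]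
    exact hzO
  · rw [← hw, ← Scheme.Hom.comp_apply, ← Category.assoc, show ζ ≫ r = _ from hζ,
      Scheme.Hom.comp_apply, EtSite.Push.algPoint_apply]

end Groth.Agent.Lib.EtDiscrete
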