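import Groth.Agent.Lib.EtDiscrete.Fibre
import Groth.Agent.Lib.FEt.GeomConn
import Mathlib.AlgebraicGeometry.AffineScheme
import Mathlib.AlgebraicGeometry.PullbackCarrier

/-!
# Fibres of maps of strict localizations over a discrete scheme are connected
-/

set_option autoImplicit false

universe u

open CategoryTheory CategoryTheory.Limits AlgebraicGeometry TensorProduct

noncomputable section

namespace Groth.Agent.Lib.EtDiscrete

/-- The coordinate ring of a one-point affine open has maximal nilradical. -/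
theorem isMaximal_nilradical (Λ : Type u) [CommRing Λ] [Subsingleton (PrimeSpectrum Λ)] [Nontrivial Λ] :
    (nilradical Λ).IsMaximal := by
  obtain ⟨M, hM⟩ := Ideal.exists_maximal Λ
  have : nilradical Λ = M := le_antisymm (@nilradical_le_prime _ _ M hM.isPrime) (fun a ha => by
    rw [nilradical_eq_sInf]
    exact Ideal.mem_sInf.2 fun {J} hJ => by
      rwa [show J = M from congrArg PrimeSpectrum.asIdeal
        (Subsingleton.elim (⟨J, hJ⟩ : PrimeSpectrum Λ) ⟨M, hM.isPrime⟩)])
  rwa [this]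

/-- A ring without nontrivial idempotents has connected spectrum. -/
theorem connectedSpace_of_idem (T : Type u) [CommRing T] [Nontrivial T]
    (h : ∀ e : T, e * e = e → e = 0 ∨ e = 1) : ConnectedSpace (PrimeSpectrum T) := by
  haveI : PreconnectedSpace (PrimeSpectrum T) := by
    rw [preconnectedSpace_iff_clopen]
    intro s hs
    obtain ⟨e, he, rfl⟩ := PrimeSpectrum.exists_idempotent_basicOpen_eq_of_isClopen hs
    rcases h e he with rfl | rfl
    · left; simp
    · right; simp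
  exact { toNonempty := inferInstance }

variable {X Y X₁ Y₁ : Scheme.{u}} {g : X ⟶ Y} {g₁ : X₁ ⟶ Y₁} {b' : X₁ ⟶ X} {b : Y₁ ⟶ Y}

/-- An affine product chart around a point of a fibre product. -/
theorem exists_product_chart [DiscreteTopology Y] (sq : IsPullback b' g₁ g b) (x : X₁) :
    ∃ (Λ : Type u) (_ : CommRing Λ) (_ : Subsingleton (PrimeSpectrum Λ)) (_ : Nontrivial Λ)
      (V : Y₁.Opens) (hV : IsAffineOpen V) (_ : g₁.base x ∈ V) (_ : Algebra Λ Γ(Y₁, V))
      (A : Type u) (_ : CommRing A) (_ : Algebra Λ A)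
      (c : Spec (CommRingCat.of (Γ(Y₁, V) ⊗[Λ] A)) ⟶ X₁),
      IsOpenImmersion c ∧ x ∈ Set.range c.base ∧ c ≫ g₁ = Spec.map (CommRingCat.ofHom
        (Algebra.TensorProduct.includeLeftRingHom : Γ(Y₁, V) →+* Γ(Y₁, V) ⊗[Λ] A)) ≫ hV.fromSpec := by
  let y := b.base (g₁.base x)
  let U : Y.Opens := ⟨{y}, isOpen_discrete _⟩
  have hU : IsAffineOpen U := by
    obtain ⟨U', hU', hy, hle⟩ := exists_isAffineOpen_mem_and_subset (U := U) (show y ∈ U from rfl)
    have : U' = U := le_antisymm hle fun z hz => by rw [show z = y from hz]; exact hy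
    exact this ▸ hU'
  have hsub : Subsingleton (PrimeSpectrum Γ(Y, U)) := ⟨fun p q => hU.fromSpec.isOpenEmbedding.injective (by
    have h : ∀ p, hU.fromSpec.base p = y := fun p => by
      have : hU.fromSpec.base p ∈ (U : Set Y) := hU.range_fromSpec ▸ Set.mem_range_self p
      exact this
    rw [h, h])⟩
  have hnt : Nontrivial Γ(Y, U) := by
    have : Nonempty (PrimeSpectrum Γ(Y, U)) := ⟨hU.primeIdealOf ⟨y, rfl⟩⟩
    exact PrimeSpectrum.nonempty_iff_nontrivial.1 this
  obtain ⟨V, hV, hxV, hVU⟩ :=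
    exists_isAffineOpen_mem_and_subset (U := b ⁻¹ᵁ U) (show g₁.base x ∈ b ⁻¹ᵁ U from rfl)
  obtain ⟨W, hW, hxW, hWU⟩ :=
    exists_isAffineOpen_mem_and_subset (U := g ⁻¹ᵁ U) (show b'.base x ∈ g ⁻¹ᵁ U from by
      change g.base (b'.base x) = y
      rw [← Scheme.Hom.comp_apply, sq.w, Scheme.Hom.comp_apply])
  letI : Algebra Γ(Y, U) Γ(Y₁, V) := (b.appLE U V hVU).hom.toAlgebra
  letI : Algebra Γ(Y, U) Γ(X, W) := (g.appLE U W hWU).hom.toAlgebra
  have e₁ : Spec.map (CommRingCat.ofHom (algebraMap Γ(Y, U) Γ(Y₁, V))) ≫ hU.fromSpec =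
      hV.fromSpec ≫ b := IsAffineOpen.SpecMap_appLE_fromSpec b hU hV hVU
  have e₂ : Spec.map (CommRingCat.ofHom (algebraMap Γ(Y, U) Γ(X, W))) ≫ hU.fromSpec =
      hW.fromSpec ≫ g := IsAffineOpen.SpecMap_appLE_fromSpec g hU hW hWU
  let M := pullback.map _ _ b g hV.fromSpec hW.fromSpec hU.fromSpec e₁ e₂
  let c := (pullbackSpecIso Γ(Y, U) Γ(Y₁, V) Γ(X, W)).inv ≫ M ≫ sq.flip.isoPullback.inv
  refine ⟨Γ(Y, U), inferInstance, hsub, hnt, V, hV, hxV, inferInstance, Γ(X, W), inferInstance,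
    inferInstance, c, inferInstance, ?_, ?_⟩
  · have hz : sq.flip.isoPullback.hom.base x ∈ Set.range M.base := by
      rw [Scheme.Pullback.range_map]
      refine ⟨?_, ?_⟩
      · change (pullback.fst b g).base (sq.flip.isoPullback.hom.base x) ∈ Set.range hV.fromSpec.base
        rw [← Scheme.Hom.comp_apply, IsPullback.isoPullback_hom_fst, hV.range_fromSpec]
        exact hxV
      · change (pullback.snd b g).base (sq.flip.isoPullback.hom.base x) ∈ Set.range hW.fromSpec.base
        rw [← Scheme.Hom.comp_apply, IsPullback.isoPullback_hom_snd, hW.range_fromSpec]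
        exact hxW
    obtain ⟨w, hw⟩ := hz
    refine ⟨(pullbackSpecIso Γ(Y, U) Γ(Y₁, V) Γ(X, W)).hom.base w, ?_⟩
    change ((pullbackSpecIso Γ(Y, U) Γ(Y₁, V) Γ(X, W)).inv ≫ M ≫ sq.flip.isoPullback.inv).base _ = x
    rw [← Scheme.Hom.comp_apply, Iso.hom_inv_id_assoc, Scheme.Hom.comp_apply, hw,
      ← Scheme.Hom.comp_apply, Iso.hom_inv_id]
    rfl
  · change ((pullbackSpecIso Γ(Y, U) Γ(Y₁, V) Γ(X, W)).inv ≫ M ≫ sq.flip.isoPullback.inv) ≫ g₁ = _
    rw [Category.assoc, Category.assoc, IsPullback.isoPullback_inv_fst, pullback.lift_fst,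
      pullbackSpecIso_inv_fst_assoc]

/-- The base change of a map of strict localizations to an algebraically closed field is connected. -/
theorem connectedSpace_fibre_localizations [DiscreteTopology Y] (sq : IsPullback b' g₁ g b) (x : X₁)
    {RY RX : Type u} [CommRing RY] [CommRing RX] [IsLocalRing RY] [IsLocalRing RX]
    [Algebra (Y₁.presheaf.stalk (g₁.base x)) RY]
    [IsLocalHom (algebraMap (Y₁.presheaf.stalk (g₁.base x)) RY)]
    [Hensel.IsStrictHenselization (Y₁.presheaf.stalk (g₁.base x)) RY]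
    [Algebra (X₁.presheaf.stalk x) RX] [IsLocalHom (algebraMap (X₁.presheaf.stalk x) RX)]
    [Hensel.IsStrictHenselization (X₁.presheaf.stalk x) RX]
    [Algebra RY RX] [IsLocalHom (algebraMap RY RX)]
    (hcomp : (algebraMap RY RX).comp (algebraMap (Y₁.presheaf.stalk (g₁.base x)) RY) =
      (algebraMap (X₁.presheaf.stalk x) RX).comp (g₁.stalkMap x).hom)
    (L : Type u) [Field L] [IsSepClosed L] (s : Spec (CommRingCat.of L) ⟶ Spec (CommRingCat.of RY)) :
    ConnectedSpace ↥(pullback (Spec.map (CommRingCat.ofHom (algebraMap RY RX))) s) := by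
  obtain ⟨Λ, _, _, _, V, hV, hxV, _, A, _, _, c, _, ⟨P, rfl⟩, hc⟩ := exists_product_chart sq x
  -- the local ring upstairs as a localisation
  let φ : CommRingCat.of (Γ(Y₁, V) ⊗[Λ] A) ⟶ X₁.presheaf.stalk (c.base P) :=
    CommRingCat.ofHom (algebraMap (Γ(Y₁, V) ⊗[Λ] A) (Localization.AtPrime P.asIdeal)) ≫
      (Spec.stalkIso (CommRingCat.of (Γ(Y₁, V) ⊗[Λ] A)) P).inv ≫ inv (c.stalkMap P)
  letI : Algebra (Γ(Y₁, V) ⊗[Λ] A) (X₁.presheaf.stalk (c.base P)) := φ.hom.toAlgebra
  haveI : IsLocalization P.asIdeal.primeCompl (X₁.presheaf.stalk (c.base P)) :=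
    IsLocalization.isLocalization_of_algEquiv P.asIdeal.primeCompl
      (S := Localization.AtPrime P.asIdeal)
      { ((Spec.stalkIso (CommRingCat.of (Γ(Y₁, V) ⊗[Λ] A)) P).symm ≪≫
          (asIso (c.stalkMap P)).symm).commRingCatIsoToRingEquiv with
        commutes' := fun _ => rfl }
  have hφ : Spec.map φ ≫ c = X₁.fromSpecStalk (c.base P) := by
    have e : CommRingCat.ofHom (algebraMap (Γ(Y₁, V) ⊗[Λ] A) (Localization.AtPrime P.asIdeal)) ≫
        (Spec.stalkIso (CommRingCat.of (Γ(Y₁, V) ⊗[Λ] A)) P).inv = _ :=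
      Spec.algebraMap_stalkIso_inv (R := CommRingCat.of (Γ(Y₁, V) ⊗[Λ] A)) P
    change Spec.map (CommRingCat.ofHom _ ≫ (Spec.stalkIso _ P).inv ≫ inv (c.stalkMap P)) ≫ c = _
    rw [← Category.assoc, e, Spec.map_comp, Spec.map_inv, Category.assoc, IsIso.inv_comp_eq,
      ← Spec.fromSpecStalk_eq, Scheme.SpecMap_stalkMap_fromSpecStalk]
  -- the local ring downstairs
  letI := TopCat.Presheaf.algebra_section_stalk Y₁.presheaf (⟨g₁.base (c.base P), hxV⟩ : V)
  haveI : IsLocalization (hV.primeIdealOf ⟨g₁.base (c.base P), hxV⟩).asIdeal.primeCompl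
      (Y₁.presheaf.stalk (g₁.base (c.base P))) :=
    hV.isLocalization_stalk ⟨g₁.base (c.base P), hxV⟩
  have key : ∀ ψ : CommRingCat.of (Γ(Y₁, V) ⊗[Λ] A) ⟶ X₁.presheaf.stalk (c.base P),
      Spec.map ψ ≫ c = X₁.fromSpecStalk (c.base P) →
      CommRingCat.ofHom (Algebra.TensorProduct.includeLeftRingHom :
        Γ(Y₁, V) →+* Γ(Y₁, V) ⊗[Λ] A) ≫ ψ =
      Y₁.presheaf.germ V _ hxV ≫ g₁.stalkMap (c.base P) := by
    intro ψ hψ
    apply Spec.map_injective
    rw [← cancel_mono hV.fromSpec, Spec.map_comp, Spec.map_comp, Category.assoc, Category.assoc,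
      ← hc, ← Category.assoc, hψ]
    refine Eq.trans ?_ (congrArg (Spec.map (g₁.stalkMap (c.base P)) ≫ ·)
      (hV.fromSpecStalk_eq_fromSpecStalk hxV)).symm
    exact (Scheme.SpecMap_stalkMap_fromSpecStalk g₁).symm
  have hcmp := key φ hφ
  letI : Algebra Γ(Y₁, V) RY :=
    ((algebraMap (Y₁.presheaf.stalk (g₁.base (c.base P))) RY).comp (algebraMap Γ(Y₁, V) _)).toAlgebra
  haveI : IsScalarTower Γ(Y₁, V) (Y₁.presheaf.stalk (g₁.base (c.base P))) RY :=
    IsScalarTower.of_algebraMap_eq fun _ => rfl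
  letI : Algebra Λ RY := ((algebraMap Γ(Y₁, V) RY).comp (algebraMap Λ Γ(Y₁, V))).toAlgebra
  haveI : IsScalarTower Λ Γ(Y₁, V) RY := IsScalarTower.of_algebraMap_eq fun _ => rfl
  have hY := ‹Hensel.IsStrictHenselization (Y₁.presheaf.stalk (g₁.base (c.base P))) RY›
  haveI := hY.henselian
  haveI : IsSepClosed (IsLocalRing.ResidueField RY) := hY.isSepClosure.sep_closed
  -- the residue field of the base
  letI : Field (Λ ⧸ nilradical Λ) := @Ideal.Quotient.field _ _ (nilradical Λ) (isMaximal_nilradical Λ)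
  let F₀ := AlgebraicClosure L
  let ρ : RY →+* F₀ := (algebraMap L F₀).comp (Spec.preimage s).hom
  letI : Algebra RY F₀ := ρ.toAlgebra
  letI : Algebra (Λ ⧸ nilradical Λ) F₀ :=
    (Ideal.Quotient.lift (nilradical Λ) (ρ.comp (algebraMap Λ RY)) fun a ha =>
      ((mem_nilradical.1 ha).map (ρ.comp (algebraMap Λ RY))).eq_zero).toAlgebra
  obtain ⟨hne, hclosed, hidem⟩ := idem_trivial (Λ := Λ) (k := Λ ⧸ nilradical Λ) (A := A)
    P.asIdeal.primeCompl (hV.primeIdealOf ⟨g₁.base (c.base P), hxV⟩).asIdeal.primeCompl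
    (RY := RY) (RX := RX) (O := X₁.presheaf.stalk (c.base P))
    (OY := Y₁.presheaf.stalk (g₁.base (c.base P)))
    Ideal.Quotient.mk_surjective
    (fun r => (RingHom.congr_fun hcomp _).trans (congrArg (algebraMap (X₁.presheaf.stalk (c.base P)) RX)
      (RingHom.congr_fun (congrArg CommRingCat.Hom.hom hcmp) r).symm))
    (Henselian.StrictHenselization.equivOfIsStrictHenselization (X₁.presheaf.stalk (c.base P)) RX)
    (Henselian.StrictHenselization.equivOfIsStrictHenselization
      (Y₁.presheaf.stalk (g₁.base (c.base P))) RY)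
    F₀ (fun _ => rfl)
  let B := integralClosure RY F₀
  let F := FractionRing B
  haveI := hclosed
  haveI := connectedSpace_of_idem (RX ⊗[RY] F) hidem
  haveI : ConnectedSpace ↥(Spec (CommRingCat.of (RX ⊗[RY] F))) :=
    inferInstanceAs (ConnectedSpace (PrimeSpectrum (RX ⊗[RY] F)))
  let h := Spec.map (CommRingCat.ofHom (algebraMap RY RX))
  let sF := Spec.map (CommRingCat.ofHom (algebraMap RY F))
  haveI : ConnectedSpace ↥(pullback h sF) :=
    (Scheme.homeoOfIso (pullbackSpecIso RY RX F)).connectedSpace_iff.2 ‹_›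
  haveI : ConnectedSpace ↥(Spec (CommRingCat.of F₀)) :=
    haveI : PreconnectedSpace ↥(Spec (CommRingCat.of F₀)) :=
      ⟨isPreconnected_univ (α := ↥(Spec (CommRingCat.of F₀)))⟩
    { toNonempty := inferInstance }
  let jF : F →+* F₀ := IsFractionRing.lift (A := B) (g := algebraMap B F₀) Subtype.val_injective
  haveI := FEt.GeomConn.connectedSpace_pullback_of_isAlgClosed F (pullback.snd h sF)
    (Spec.map (CommRingCat.ofHom jF))
  haveI : ConnectedSpace ↥(pullback h (Spec.map (CommRingCat.ofHom jF) ≫ sF)) :=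
    (Scheme.homeoOfIso (pullbackLeftPullbackSndIso _ _ _)).connectedSpace_iff.1 ‹_›
  let π := Spec.map (CommRingCat.ofHom (algebraMap L F₀))
  have hs : Spec.map (CommRingCat.ofHom jF) ≫ sF = π ≫ s := by
    rw [← Spec.map_preimage s, ← Spec.map_comp, ← Spec.map_comp]
    refine congrArg Spec.map (CommRingCat.hom_ext (RingHom.ext fun r => ?_))
    change jF (algebraMap RY F r) = ρ r
    rw [IsScalarTower.algebraMap_apply RY B F, IsFractionRing.lift_algebraMap]
    rfl
  haveI : ConnectedSpace ↥(pullback h (π ≫ s)) := hs ▸ ‹_›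
  haveI : Surjective π := ⟨fun z => ⟨default, Subsingleton.elim _ _⟩⟩
  let m : pullback h (π ≫ s) ⟶ pullback h s :=
    pullback.lift (pullback.fst _ _) (pullback.snd _ _ ≫ π) (by rw [Category.assoc]; exact pullback.condition)
  have sqm : IsPullback m (pullback.snd h (π ≫ s)) (pullback.snd h s) π := by
    refine IsPullback.of_right ?_ (pullback.lift_snd _ _ _) (IsPullback.of_hasPullback h s)
    rw [pullback.lift_fst]
    exact IsPullback.of_hasPullback h (π ≫ s)
  have hm : Surjective m := MorphismProperty.of_isPullback sqm.flip ‹Surjective π›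
  exact hm.surj.connectedSpace m.continuous

end Groth.Agent.Lib.EtDiscrete
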