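import Groth.Agent.Lib.EtDiscrete.Local

/-!
# The constants extension of an algebra over an artinian base
-/

set_option autoImplicit false

universe u

open TensorProduct IsLocalRing
open Groth.Agent.Lib.EtSite.LimTensor Groth.Agent.Lib.Henselian.Pointed

noncomputable section

namespace Groth.Agent.Lib.EtDiscrete

/-- A reduced algebra embeds in a normal one, a product of fields. -/
theorem exists_normal_embedding (K Ar : Type u) [CommRing K] [CommRing Ar] [Algebra K Ar] [IsReduced Ar] :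
    ∃ (P₀ : Type u) (_ : CommRing P₀) (_ : Algebra K P₀), EGA4.IsNormalRing P₀ ∧
      ∃ σ₀ : Ar →ₐ[K] P₀, Function.Injective σ₀ := by
  refine ⟨∀ p : PrimeSpectrum Ar, FractionRing (Ar ⧸ p.asIdeal), inferInstance, inferInstance,
    isNormalRing_pi (fun p : PrimeSpectrum Ar => FractionRing (Ar ⧸ p.asIdeal)),
    Pi.algHom _ _ fun p =>
      (IsScalarTower.toAlgHom K (Ar ⧸ p.asIdeal) (FractionRing (Ar ⧸ p.asIdeal))).comp
        (Ideal.Quotient.mkₐ K p.asIdeal), (injective_iff_map_eq_zero _).2 fun a ha => ?_⟩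
  have : a ∈ nilradical Ar := nilradical_eq_sInf Ar ▸ Ideal.mem_sInf.2 fun {J} hJ => by
    have h := congrFun ha ⟨J, hJ⟩
    exact Ideal.Quotient.eq_zero_iff_mem.1
      (IsFractionRing.injective (Ar ⧸ J) (FractionRing (Ar ⧸ J)) (h.trans (map_zero _).symm))
  exact (mem_nilradical.1 this).eq_zero

/-- The fraction field of an integral closure in an algebraically closed field is algebraically closed. -/
theorem isAlgClosed_fractionRing_integralClosure (RY F₀ : Type u) [CommRing RY] [Field F₀]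
    [IsAlgClosed F₀] [Algebra RY F₀] : IsAlgClosed (FractionRing (integralClosure RY F₀)) := by
  let B := integralClosure RY F₀
  let F := FractionRing B
  have hBinj : Function.Injective (algebraMap B F₀) := Subtype.val_injective
  let jF : F →+* F₀ := IsFractionRing.lift hBinj
  refine IsAlgClosed.of_exists_root _ fun p hp hirr => ?_
  obtain ⟨x, hx⟩ := IsAlgClosed.exists_root (p.map jF)
    (by rw [Polynomial.degree_map]; exact (Polynomial.degree_pos_of_irreducible hirr).ne')
  letI : Algebra F F₀ := jF.toAlgebra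
  haveI : IsScalarTower B F F₀ :=
    IsScalarTower.of_algebraMap_eq fun b => (IsFractionRing.lift_algebraMap hBinj b).symm
  have hFx : IsAlgebraic F x := by
    refine ⟨p, hp.ne_zero, ?_⟩
    rw [Polynomial.aeval_def, ← Polynomial.eval_map]
    exact hx
  have hBx : IsAlgebraic B x := (IsFractionRing.isAlgebraic_iff B F F₀).2 hFx
  obtain ⟨y, hy, hyx⟩ := hBx.exists_integral_multiple
  have hyx' : IsIntegral RY (y • x) := isIntegral_trans _ hyx
  have hx' : x = jF (algebraMap B F ⟨_, hyx'⟩ / algebraMap B F y) := by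
    rw [map_div₀, IsFractionRing.lift_algebraMap, IsFractionRing.lift_algebraMap]
    refine (eq_div_iff ?_).2 ?_
    · exact fun h => hy (hBinj (h.trans (map_zero _).symm))
    · change x * algebraMap B F₀ y = y • x
      rw [Algebra.smul_def, mul_comm]
  refine ⟨algebraMap B F ⟨_, hyx'⟩ / algebraMap B F y, jF.injective ?_⟩
  rw [map_zero, ← Polynomial.eval_map_apply, ← hx']
  exact hx

/-- Regularity and divisibility of `1 ⊗ b` in `Ar ⊗[K] B` inside `P₀ ⊗[K] B`. -/
theorem regular_div {K Ar P₀ B : Type u} [Field K] [CommRing Ar] [Algebra K Ar] [CommRing P₀]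
    [Algebra K P₀] [CommRing B] [IsDomain B] [Algebra K B] (σ₀ : Ar →ₐ[K] P₀)
    (hσ₀ : Function.Injective σ₀) (b : B) (hb : b ≠ 0) :
    (∀ c : Ar ⊗[K] B, (1 : Ar) ⊗ₜ b * c = 0 → c = 0) ∧
      ∀ (c : Ar ⊗[K] B) (v : P₀ ⊗[K] B), Algebra.TensorProduct.map σ₀ (AlgHom.id K B) c =
        Algebra.TensorProduct.map σ₀ (AlgHom.id K B) ((1 : Ar) ⊗ₜ b) * v → (1 : Ar) ⊗ₜ b ∣ c := by
  refine ⟨?_, ?_⟩
  · intro c hc
    let μB : B →ₗ[K] B := LinearMap.mulLeft K b
    have hμB : Function.Injective μB := fun x y h => mul_left_cancel₀ hb h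
    have e : ∀ c : (Ar ⊗[K] B), μB.lTensor Ar c = (1 : Ar) ⊗ₜ b * c := fun c => by
      induction c using TensorProduct.induction_on with
      | zero => simp
      | tmul a x => simp [μB]
      | add x y hx hy => rw [map_add, hx, hy, mul_add]
    exact Module.Flat.lTensor_preserves_injective_linearMap μB hμB
      (((e c).trans hc).trans (map_zero _).symm)
  · intro c v hv
    let μB : B →ₗ[K] B := LinearMap.mulLeft K b
    let q : B →ₗ[K] B ⧸ LinearMap.range μB := (LinearMap.range μB).mkQ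
    have h0 : q.lTensor P₀ (Algebra.TensorProduct.map σ₀ (AlgHom.id K B) c) = 0 := by
      rw [show Algebra.TensorProduct.map σ₀ (AlgHom.id K B) c = ((1 : P₀) ⊗ₜ b) * v from hv.trans (congrArg (· * v) (by simp))]
      clear hv
      induction v using TensorProduct.induction_on with
      | zero => simp
      | tmul a x =>
        rw [Algebra.TensorProduct.tmul_mul_tmul, one_mul, LinearMap.lTensor_tmul]
        rw [show q (b * x) = 0 from (Submodule.Quotient.mk_eq_zero _).2 ⟨x, rfl⟩,
          TensorProduct.tmul_zero]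
      | add x y hx hy => rw [mul_add, map_add, hx, hy, add_zero]
    have e : ∀ c : (Ar ⊗[K] B), q.lTensor P₀ (Algebra.TensorProduct.map σ₀ (AlgHom.id K B) c) =
        σ₀.toLinearMap.rTensor _ (q.lTensor Ar c) := fun c => by
      induction c using TensorProduct.induction_on with
      | zero => simp
      | tmul a x => simp [q]
      | add x y hx hy => simp only [map_add, hx, hy]
    have h1 : q.lTensor Ar c = 0 :=
      Module.Flat.rTensor_preserves_injective_linearMap σ₀.toLinearMap hσ₀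
        (by rw [← e, h0, map_zero])
    have hex : Function.Exact μB q := LinearMap.exact_iff.2 (Submodule.ker_mkQ _)
    obtain ⟨u, hu⟩ := (lTensor_exact Ar hex (Submodule.mkQ_surjective _) c).1 h1
    refine ⟨u, hu.symm.trans ?_⟩
    clear hu h0 h1
    induction u using TensorProduct.induction_on with
    | zero => simp
    | tmul a x => simp [μB]
    | add x y hx hy => rw [map_add, hx, hy, mul_add]

variable {Λ k : Type u} [CommRing Λ] [Field k] [Algebra Λ k]
  {R A RY : Type u} [CommRing R] [Algebra Λ R] [CommRing A] [Algebra Λ A]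
  [CommRing RY] [Algebra R RY] [Algebra Λ RY] [IsScalarTower Λ R RY]

/-- The constants extension `C₀ = (A ⊗ K₀)_red ⊗[K₀] B` and its universal property. -/
theorem exists_constants (hsurj : Function.Surjective (algebraMap Λ k))
    (F₀ : Type u) [Field F₀] [IsAlgClosed F₀] [Algebra RY F₀] [Algebra k F₀]
    (hk : ∀ l : Λ, algebraMap k F₀ (algebraMap Λ k l) = algebraMap RY F₀ (algebraMap Λ RY l)) :
    ∃ (C₀ C₀' : Type u) (_ : CommRing C₀) (_ : CommRing C₀') (σ₁ : C₀ →+* C₀')
      (κ : R ⊗[Λ] A →+* C₀) (jb : integralClosure RY F₀ →+* C₀),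
      EGA4.IsNormalRing C₀' ∧ Function.Injective σ₁ ∧
      (∀ r : R, κ (r ⊗ₜ 1) = jb (algebraMap RY (integralClosure RY F₀) (algebraMap R RY r))) ∧
      (∀ b : integralClosure RY F₀, b ≠ 0 → (∀ c, jb b * c = 0 → c = 0) ∧
        ∀ c v, σ₁ c = σ₁ (jb b) * v → jb b ∣ c) ∧
      (∀ (T : Type u) [CommRing T] (f g : C₀ →+* T),
        f.comp κ = g.comp κ → f.comp jb = g.comp jb → f = g) ∧
      (∀ (T : Type u) [CommRing T] [IsReduced T] (g : R ⊗[Λ] A →+* T)
        (f : integralClosure RY F₀ →+* T),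
        (∀ r : R, g (r ⊗ₜ 1) = f (algebraMap RY (integralClosure RY F₀) (algebraMap R RY r))) →
        ∃ h : C₀ →+* T, h.comp κ = g ∧ h.comp jb = f) := by
  classical
  let B := integralClosure RY F₀
  have hBinj : Function.Injective (algebraMap B F₀) := Subtype.val_injective
  haveI : IsIntegrallyClosed B := IsIntegrallyClosed.of_isIntegrallyClosedIn B F₀
  let K₀ := algebraicClosure k F₀
  haveI : IsAlgClosed K₀ := (algebraicClosure.isAlgClosure k F₀).isAlgClosed
  have hint : ∀ a : K₀, IsIntegral RY (a : F₀) := fun a => by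
    obtain ⟨p, hp, hpa⟩ := (mem_algebraicClosure_iff.1 a.2).isIntegral
    obtain ⟨p₀, hp₀, -, hp₀m⟩ := Polynomial.lifts_and_natDegree_eq_and_monic
      ((Polynomial.mem_lifts _).2 (Polynomial.map_surjective _ hsurj p)) hp
    refine ⟨p₀.map (algebraMap Λ RY), hp₀m.map _, ?_⟩
    rw [Polynomial.eval₂_map, ← show (algebraMap k F₀).comp (algebraMap Λ k) =
      (algebraMap RY F₀).comp (algebraMap Λ RY) from RingHom.ext hk, ← Polynomial.eval₂_map, hp₀]
    exact hpa
  let νK : K₀ →+* B := RingHom.codRestrict (algebraMap K₀ F₀) B hint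
  letI : Algebra K₀ B := νK.toAlgebra
  letI : Algebra Λ K₀ := ((algebraMap k K₀).comp (algebraMap Λ k)).toAlgebra
  have hνΛ : ∀ l : Λ, νK (algebraMap Λ K₀ l) = algebraMap RY B (algebraMap Λ RY l) := fun l =>
    Subtype.ext (hk l)
  let Ar := (K₀ ⊗[Λ] A) ⧸ nilradical (K₀ ⊗[Λ] A)
  haveI : IsReduced Ar := (Ideal.isRadical_iff_quotient_reduced _).1 (Ideal.radical_isRadical _)
  obtain ⟨P₀, _, _, hP₀, σ₀, hσ₀⟩ := exists_normal_embedding K₀ Ar
  let C₀ := Ar ⊗[K₀] B
  let C₀' := P₀ ⊗[K₀] B
  let σ₁ : C₀ →ₐ[K₀] C₀' := Algebra.TensorProduct.map σ₀ (AlgHom.id K₀ B)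
  have hσ₁ : Function.Injective σ₁ :=
    Module.Flat.rTensor_preserves_injective_linearMap σ₀.toLinearMap hσ₀
  have hC₀' : EGA4.IsNormalRing C₀' := by
    refine NormalTensor.Main.isNormalRing_tensor K₀ (fun k' _ _ hfin _ => ?_)
      NormalTensor.Main.isNormalRing_of_domain
    let e : K₀ ≃ₐ[K₀] k' := AlgEquiv.ofBijective (Algebra.ofId K₀ k')
      IsAlgClosed.algebraMap_bijective_of_isIntegral
    exact NormalTensor.Basic.isNormalRing_congr
      ((Algebra.TensorProduct.lid K₀ P₀).symm.trans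
        (Algebra.TensorProduct.congr e AlgEquiv.refl)).toRingEquiv hP₀
  let ψA : A →+* Ar := (Ideal.Quotient.mk _).comp
    (Algebra.TensorProduct.includeRight : A →ₐ[Λ] K₀ ⊗[Λ] A).toRingHom
  let fR : R →+* C₀ := (Algebra.TensorProduct.includeRight : B →ₐ[K₀] C₀).toRingHom.comp
    ((algebraMap RY B).comp (algebraMap R RY))
  let gA : A →+* C₀ := (Algebra.TensorProduct.includeLeftRingHom : Ar →+* C₀).comp ψA
  have hfg : fR.comp (algebraMap Λ R) = gA.comp (algebraMap Λ A) := by
    refine RingHom.ext fun l => ?_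
    have h1 : Ideal.Quotient.mk (nilradical (K₀ ⊗[Λ] A))
        ((Algebra.TensorProduct.includeRight : A →ₐ[Λ] K₀ ⊗[Λ] A) (algebraMap Λ A l)) =
        algebraMap K₀ Ar (algebraMap Λ K₀ l) := by
      rw [AlgHom.commutes]
      rfl
    change (1 : Ar) ⊗ₜ[K₀] algebraMap RY B (algebraMap R RY (algebraMap Λ R l)) =
      (Ideal.Quotient.mk (nilradical (K₀ ⊗[Λ] A))
        ((Algebra.TensorProduct.includeRight : A →ₐ[Λ] K₀ ⊗[Λ] A) (algebraMap Λ A l))) ⊗ₜ[K₀] (1 : B)
    rw [h1, ← IsScalarTower.algebraMap_apply Λ R RY, ← hνΛ, Algebra.algebraMap_eq_smul_one (A := Ar),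
      TensorProduct.smul_tmul, Algebra.smul_def, mul_one]
    rfl
  let κ : R ⊗[Λ] A →+* C₀ := tlift (X := C₀) fR gA hfg
  refine ⟨C₀, C₀', inferInstance, inferInstance, σ₁.toRingHom, κ,
    (Algebra.TensorProduct.includeRight : B →ₐ[K₀] C₀).toRingHom, hC₀', hσ₁, fun r => ?_,
    fun b hb => regular_div σ₀ hσ₀ b hb, fun T _ f g hfκ hfb => ?_, fun T _ _ g f hgf => ?_⟩
  · change tlift (X := C₀) fR gA hfg (r ⊗ₜ 1) = _
    rw [tlift_tmul, map_one, mul_one]
    rfl
  · refine RingHom.ext fun c => ?_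
    induction c using TensorProduct.induction_on with
    | zero => simp
    | tmul ar b =>
      rw [show ar ⊗ₜ[K₀] b = ar ⊗ₜ[K₀] (1 : B) * (1 : Ar) ⊗ₜ[K₀] b by
        rw [Algebra.TensorProduct.tmul_mul_tmul, mul_one, one_mul], map_mul, map_mul]
      congr 1
      · obtain ⟨z, rfl⟩ := Ideal.Quotient.mk_surjective ar
        induction z using TensorProduct.induction_on with
        | zero => simp
        | tmul c a =>
          have e : (Ideal.Quotient.mk (nilradical (K₀ ⊗[Λ] A)) (c ⊗ₜ a)) ⊗ₜ[K₀] (1 : B) =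
              (1 : Ar) ⊗ₜ[K₀] νK c * κ ((1 : R) ⊗ₜ a) := by
            change _ = (1 : Ar) ⊗ₜ[K₀] νK c * tlift (X := C₀) fR gA hfg ((1 : R) ⊗ₜ a)
            rw [tlift_tmul, map_one, one_mul,
              show c ⊗ₜ[Λ] a = c • ((1 : K₀) ⊗ₜ[Λ] a) by
                rw [TensorProduct.smul_tmul', smul_eq_mul, mul_one]]
            change _ = (1 : Ar) ⊗ₜ[K₀] νK c * (ψA a ⊗ₜ[K₀] (1 : B))
            rw [Algebra.TensorProduct.tmul_mul_tmul, one_mul, mul_one,
              show νK c = c • (1 : B) from by rw [Algebra.smul_def, mul_one]; rfl,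
              ← TensorProduct.smul_tmul]
            rfl
          rw [e, map_mul, map_mul]
          exact congrArg₂ (· * ·) (RingHom.congr_fun hfb (νK c))
            (RingHom.congr_fun hfκ ((1 : R) ⊗ₜ a))
        | add x y hx hy => simp only [map_add, TensorProduct.add_tmul, hx, hy]
      · exact RingHom.congr_fun hfb b
    | add x y hx hy => simp only [map_add, hx, hy]
  · let gK : A →+* T := g.comp (Algebra.TensorProduct.includeRight : A →ₐ[Λ] R ⊗[Λ] A).toRingHom
    have hc : (f.comp νK).comp (algebraMap Λ K₀) = gK.comp (algebraMap Λ A) := by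
      refine RingHom.ext fun l => ?_
      change f (νK (algebraMap Λ K₀ l)) = g ((1 : R) ⊗ₜ algebraMap Λ A l)
      rw [hνΛ, IsScalarTower.algebraMap_apply Λ R RY, ← hgf]
      rw [Algebra.algebraMap_eq_smul_one, Algebra.algebraMap_eq_smul_one, TensorProduct.smul_tmul]
    let fK : K₀ ⊗[Λ] A →+* T := tlift (X := T) (f.comp νK) gK hc
    let fAr : Ar →+* T := Ideal.Quotient.lift _ fK fun a ha =>
      ((mem_nilradical.1 ha).map fK).eq_zero
    have hc' : fAr.comp (algebraMap K₀ Ar) = f.comp (algebraMap K₀ B) := RingHom.ext fun a => by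
      change tlift (X := T) (f.comp νK) gK hc (a ⊗ₜ 1) = f (νK a)
      rw [tlift_tmul, map_one, mul_one]
      rfl
    refine ⟨tlift (X := T) fAr f hc', RingHom.ext fun x => ?_, RingHom.ext fun b => ?_⟩
    · induction x using TensorProduct.induction_on with
      | zero => simp
      | tmul r a =>
        change tlift (X := T) fAr f hc' (tlift (X := C₀) fR gA hfg (r ⊗ₜ a)) = _
        rw [tlift_tmul, map_mul]
        change tlift (X := T) fAr f hc' ((1 : Ar) ⊗ₜ[K₀] algebraMap RY B (algebraMap R RY r)) *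
          tlift (X := T) fAr f hc' (ψA a ⊗ₜ[K₀] (1 : B)) = _
        rw [tlift_tmul, tlift_tmul, map_one, map_one, one_mul, mul_one, ← hgf]
        change g (r ⊗ₜ 1) * tlift (X := T) (f.comp νK) gK hc ((1 : K₀) ⊗ₜ a) = _
        rw [tlift_tmul, map_one, one_mul]
        change g (r ⊗ₜ 1) * g ((1 : R) ⊗ₜ a) = _
        rw [← map_mul, Algebra.TensorProduct.tmul_mul_tmul, mul_one, one_mul]
      | add x y hx hy => rw [map_add, map_add, hx, hy]
    · change tlift (X := T) fAr f hc' ((1 : Ar) ⊗ₜ b) = _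
      rw [tlift_tmul, map_one, one_mul]

end Groth.Agent.Lib.EtDiscrete
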