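import Groth.Prelude.Def_EtAcyc
import Groth.Agent.Lib.EtSite.SubDescent
import Groth.Agent.Lib.EtSite.BaseChange
import Groth.Agent.Lib.EtSite.FieldExt

/-!
# Units of sheaves of sets along submersive morphisms with connected geometric fibres
-/

set_option autoImplicit false

universe u

open CategoryTheory CategoryTheory.Limits AlgebraicGeometry Opposite

noncomputable section

namespace Groth.Agent.Lib.EtDiscrete

open Groth.Agent.Lib.EtSite Groth.Agent.Lib.EtSite.Basic Groth.Agent.Lib.EtSite.SubDescent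
open Groth.Agent.Lib.EtSite.PushStalk

variable {X S : Scheme.{u}} (f : X ⟶ S) {Ω : Type u} [Field Ω] [IsSepClosed Ω]
  {η : Spec (CommRingCat.of Ω) ⟶ S}

/-- The extension of a fibre point along a field extension. -/
abbrev extPt {Ω' : Type u} [Field Ω'] [IsSepClosed Ω']
    (ρ : Spec (CommRingCat.of Ω') ⟶ Spec (CommRingCat.of Ω)) {η' : Spec (CommRingCat.of Ω') ⟶ S}
    (hη : ρ ≫ η = η') {W : S.Etale} (q : (Scheme.pointSmallEtale η).fiber.obj W) :
    (Scheme.pointSmallEtale η').fiber.obj W :=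
  mkFiber η' W (ρ ≫ fiberHom q) ((Category.assoc _ _ _).trans ((ρ ≫= fiberHom_comp q).trans hη))

theorem map_extPt {Ω' : Type u} [Field Ω'] [IsSepClosed Ω']
    (ρ : Spec (CommRingCat.of Ω') ⟶ Spec (CommRingCat.of Ω)) {η' : Spec (CommRingCat.of Ω') ⟶ S}
    (hη : ρ ≫ η = η') {W V : S.Etale} (g : W ⟶ V) (q : (Scheme.pointSmallEtale η).fiber.obj W) :
    (Scheme.pointSmallEtale η').fiber.map g (extPt ρ hη q) =
      extPt ρ hη ((Scheme.pointSmallEtale η).fiber.map g q) :=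
  Over.OverMorphism.ext (Category.assoc _ _ _)

theorem exists_extPt {Ω' : Type u} [Field Ω'] [IsSepClosed Ω']
    (ρ : Spec (CommRingCat.of Ω') ⟶ Spec (CommRingCat.of Ω)) {η' : Spec (CommRingCat.of Ω') ⟶ S}
    (hη : ρ ≫ η = η') {W : S.Etale} (r : (Scheme.pointSmallEtale η').fiber.obj W) :
    ∃ q : (Scheme.pointSmallEtale η).fiber.obj W, extPt ρ hη q = r := by
  subst hη
  obtain ⟨φ, rfl⟩ := Spec.map_surjective ρ
  letI : Algebra Ω Ω' := φ.hom.toAlgebra
  obtain ⟨q, hq⟩ := ((FieldExt.fiberExtIso η Ω').app W).toEquiv.surjective r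
  exact ⟨q, hq⟩

theorem fiberPt_extPt {Ω' : Type u} [Field Ω'] [IsSepClosed Ω']
    (ρ : Spec (CommRingCat.of Ω') ⟶ Spec (CommRingCat.of Ω)) {η' : Spec (CommRingCat.of Ω') ⟶ S}
    (hη : ρ ≫ η = η') {W : S.Etale} (q : (Scheme.pointSmallEtale η).fiber.obj W) :
    fiberPt (extPt ρ hη q) = fiberPt q :=
  (Scheme.Hom.comp_apply _ _ _).trans (congrArg (fiberHom q).base (Subsingleton.elim _ _))

theorem germ_eq_of_extPt (F : EtDesc.Sh S) {Ω' : Type u} [Field Ω'] [IsSepClosed Ω']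
    (ρ : Spec (CommRingCat.of Ω') ⟶ Spec (CommRingCat.of Ω)) {η' : Spec (CommRingCat.of Ω') ⟶ S}
    (hη : ρ ≫ η = η') {W₁ W₂ : S.Etale} (q₁ : (Scheme.pointSmallEtale η).fiber.obj W₁)
    (q₂ : (Scheme.pointSmallEtale η).fiber.obj W₂) (a₁ : EtDesc.sect F W₁) (a₂ : EtDesc.sect F W₂)
    (e : germ η' F (extPt ρ hη q₁) a₁ = germ η' F (extPt ρ hη q₂) a₂) :
    germ η F q₁ a₁ = germ η F q₂ a₂ := by
  let M := IsCofiltered.min ((Scheme.pointSmallEtale η).fiber.elementsMk W₁ q₁)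
    ((Scheme.pointSmallEtale η).fiber.elementsMk W₂ q₂)
  let g₁ : M ⟶ (Scheme.pointSmallEtale η).fiber.elementsMk W₁ q₁ := IsCofiltered.minToLeft _ _
  let g₂ : M ⟶ (Scheme.pointSmallEtale η).fiber.elementsMk W₂ q₂ := IsCofiltered.minToRight _ _
  let W : S.Etale := M.1
  let q : (Scheme.pointSmallEtale η).fiber.obj W := M.2
  have h₁ : (Scheme.pointSmallEtale η).fiber.map g₁.1 q = q₁ := g₁.2
  have h₂ : (Scheme.pointSmallEtale η).fiber.map g₂.1 q = q₂ := g₂.2
  rw [← h₁, ← h₂, ← germ_map, ← germ_map]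
  rw [← h₁, ← h₂, ← map_extPt, ← map_extPt, ← germ_map, ← germ_map] at e
  refine (BaseChange.toPresheafFiber_eq_iff_mem F.obj W _ _ q).2 ?_
  rw [← fiberPt_extPt ρ hη q]
  exact (BaseChange.toPresheafFiber_eq_iff_mem F.obj W _ _ _).1 e

/-- Coherence of germs on connected geometric fibres. -/
theorem germ_eq_of_connected (F : EtDesc.Sh S) (V₀ : S.Etale)
    (t : EtDesc.sect ((EtDesc.pullSh f).obj F) ((EtCoh.bc f).obj V₀))
    [ConnectedSpace ↥(pullback f η)]
    (ξ₁ ξ₂ : Spec (CommRingCat.of Ω) ⟶ X) (h₁ : ξ₁ ≫ f = η) (h₂ : ξ₂ ≫ f = η)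
    (p : (Scheme.pointSmallEtale η).fiber.obj V₀) (c : stalk η F)
    (hc : germ ξ₁ _ (liftPt f h₁ V₀ p) t = germUnit f F h₁ c) :
    germ ξ₂ _ (liftPt f h₂ V₀ p) t = germUnit f F h₂ c := by
  classical
  let Q := pullback f η
  let ι : ∀ (W : S.Etale) (_ : (Scheme.pointSmallEtale η).fiber.obj W), Q ⟶ ((EtCoh.bc f).obj W).left :=
    fun W q => pullback.lift (pullback.snd f η ≫ fiberHom q) (pullback.fst f η) (by
      rw [Category.assoc, fiberHom_comp q]
      exact pullback.condition.symm)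
  let agree : ∀ (W : S.Etale) (g : W ⟶ V₀) (a : EtDesc.sect F W), Set ((EtCoh.bc f).obj W).left :=
    fun W g a => {x | ∃ (W' : X.Etale) (b : W' ⟶ (EtCoh.bc f).obj W),
      ((EtDesc.pullSh f).obj F).obj.map b.op
          (((EtDesc.pullSh f).obj F).obj.map ((EtCoh.bc f).map g).op t) =
        ((EtDesc.pullSh f).obj F).obj.map b.op (unitSh f F W a) ∧ x ∈ Set.range b.left.base}
  have key : ∀ (W : S.Etale) (g : W ⟶ V₀) (q : (Scheme.pointSmallEtale η).fiber.obj W)
      (a : EtDesc.sect F W) (_ : (Scheme.pointSmallEtale η).fiber.map g q = p)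
      (Ω' : Type u) [Field Ω'] [IsSepClosed Ω'] (θ : Spec (CommRingCat.of Ω') ⟶ Q)
      (ρ : Spec (CommRingCat.of Ω') ⟶ Spec (CommRingCat.of Ω)) (_ : θ ≫ pullback.snd f η = ρ)
      (η' : Spec (CommRingCat.of Ω') ⟶ S) (hη : ρ ≫ η = η')
      (ξ' : Spec (CommRingCat.of Ω') ⟶ X) (_ : θ ≫ pullback.fst f η = ξ') (h' : ξ' ≫ f = η'),
      (θ.base default ∈ (ι W q).base ⁻¹' agree W g a ↔
        germ ξ' _ (liftPt f h' V₀ (extPt ρ hη p)) t =
          germUnit f F h' (germ η' F (extPt ρ hη q) a)) := by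
    intro W g q a hgq Ω' _ _ θ ρ hρ η' hη ξ' hξ h'
    have hpt : fiberPt (liftPt f h' W (extPt ρ hη q)) = (ι W q).base (θ.base default) := by
      rw [← Scheme.Hom.comp_apply]
      refine congrArg (fun m : Spec (CommRingCat.of Ω') ⟶ ((EtCoh.bc f).obj W).left => m.base default) ?_
      apply pullback.hom_ext
      · refine (pullback.lift_fst _ _ _).trans (Eq.symm ?_)
        refine (Category.assoc _ _ _).trans ((θ ≫= pullback.lift_fst _ _ _).trans ?_)
        exact (Category.assoc _ _ _).symm.trans (hρ =≫ fiberHom q)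
      · refine (pullback.lift_snd _ _ _).trans (Eq.symm ?_)
        exact (Category.assoc _ _ _).trans ((θ ≫= pullback.lift_snd _ _ _).trans hξ)
    rw [Set.mem_preimage, ← hpt]
    refine (BaseChange.toPresheafFiber_eq_iff_mem _ _ _ _ _).symm.trans ?_
    rw [germUnit_germ, ← hgq, ← map_extPt ρ hη g q, ← map_liftPt f h' g (extPt ρ hη q)]
    exact Eq.congr (germ_map ξ' _ _ _ t) rfl
  let O : stalk η F → Set Q := fun c => ⋃ (W : S.Etale) (g : W ⟶ V₀)
    (q : (Scheme.pointSmallEtale η).fiber.obj W) (a : EtDesc.sect F W)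
    (_ : (Scheme.pointSmallEtale η).fiber.map g q = p) (_ : germ η F q a = c),
    (ι W q).base ⁻¹' agree W g a
  have hO : ∀ c, IsOpen (O c) := fun c => isOpen_iUnion fun W => isOpen_iUnion fun g =>
    isOpen_iUnion fun q => isOpen_iUnion fun a => isOpen_iUnion fun _ => isOpen_iUnion fun _ =>
      (BaseChange.isOpen_agree ((EtDesc.pullSh f).obj F).obj _ _ _).preimage (ι W q).continuous
  have hmem : ∀ {z : Q} {c : stalk η F}, z ∈ O c ↔ ∃ (W : S.Etale) (g : W ⟶ V₀)
      (q : (Scheme.pointSmallEtale η).fiber.obj W) (a : EtDesc.sect F W),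
      (Scheme.pointSmallEtale η).fiber.map g q = p ∧ germ η F q a = c ∧
        z ∈ (ι W q).base ⁻¹' agree W g a := by
    intro z c
    simp only [O, Set.mem_iUnion, exists_prop]
  have hrefine : ∀ c : stalk η F, ∃ (W : S.Etale) (g : W ⟶ V₀)
      (q : (Scheme.pointSmallEtale η).fiber.obj W) (a : EtDesc.sect F W),
      (Scheme.pointSmallEtale η).fiber.map g q = p ∧ germ η F q a = c := by
    intro c
    obtain ⟨V', q', a', rfl⟩ :=
      (Scheme.pointSmallEtale η).toPresheafFiber_jointly_surjective (P := F.obj) c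
    let M := IsCofiltered.min ((Scheme.pointSmallEtale η).fiber.elementsMk V₀ p)
      ((Scheme.pointSmallEtale η).fiber.elementsMk V' q')
    let g : M ⟶ (Scheme.pointSmallEtale η).fiber.elementsMk V₀ p := IsCofiltered.minToLeft _ _
    let g' : M ⟶ (Scheme.pointSmallEtale η).fiber.elementsMk V' q' := IsCofiltered.minToRight _ _
    exact ⟨M.1, g.1, M.2, F.obj.map g'.1.op a', g.2,
      (germ_map η F g'.1 M.2 a').trans (congrArg (germ η F · a') g'.2)⟩
  have hcover : ∀ z : Q, ∃ c, z ∈ O c := by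
    intro z
    let θ := Push.algPoint Q z
    let ρ := θ ≫ pullback.snd f η
    let ξ' := θ ≫ pullback.fst f η
    have h' : ξ' ≫ f = ρ ≫ η := by
      rw [Category.assoc, Category.assoc, pullback.condition]
    obtain ⟨c', hc'⟩ := (bijective_germUnit f F h').2 (germ ξ' _ (liftPt f h' V₀ (extPt ρ rfl p)) t)
    obtain ⟨W', r', a', rfl⟩ :=
      (Scheme.pointSmallEtale (ρ ≫ η)).toPresheafFiber_jointly_surjective (P := F.obj) c'
    obtain ⟨q', rfl⟩ := exists_extPt ρ rfl r'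
    let M := IsCofiltered.min ((Scheme.pointSmallEtale η).fiber.elementsMk V₀ p)
      ((Scheme.pointSmallEtale η).fiber.elementsMk W' q')
    let g : M ⟶ (Scheme.pointSmallEtale η).fiber.elementsMk V₀ p := IsCofiltered.minToLeft _ _
    let g' : M ⟶ (Scheme.pointSmallEtale η).fiber.elementsMk W' q' := IsCofiltered.minToRight _ _
    refine ⟨germ η F M.2 (F.obj.map g'.1.op a'), hmem.2 ⟨M.1, g.1, M.2, _, g.2, rfl, ?_⟩⟩
    rw [← Push.algPoint_apply Q z default]
    refine (key M.1 g.1 M.2 _ g.2 _ θ ρ rfl _ rfl ξ' rfl h').2 (hc'.symm.trans ?_)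
    refine congrArg (germUnit f F h') (Eq.trans ?_ (germ_map _ F g'.1 _ a').symm)
    rw [map_extPt]
    exact congrArg (fun r => germ (ρ ≫ η) F (extPt ρ rfl r) a') g'.2.symm
  have hdisj : ∀ z c₁ c₂, z ∈ O c₁ → z ∈ O c₂ → c₁ = c₂ := by
    intro z c₁ c₂ hz₁ hz₂
    obtain ⟨W₁, g₁, q₁, a₁, hg₁, rfl, hm₁⟩ := hmem.1 hz₁
    obtain ⟨W₂, g₂, q₂, a₂, hg₂, rfl, hm₂⟩ := hmem.1 hz₂
    let θ := Push.algPoint Q z
    let ρ := θ ≫ pullback.snd f η
    let ξ' := θ ≫ pullback.fst f η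
    have h' : ξ' ≫ f = ρ ≫ η := by
      rw [Category.assoc, Category.assoc, pullback.condition]
    rw [← Push.algPoint_apply Q z default] at hm₁ hm₂
    have e₁ := (key W₁ g₁ q₁ a₁ hg₁ _ θ ρ rfl _ rfl ξ' rfl h').1 hm₁
    have e₂ := (key W₂ g₂ q₂ a₂ hg₂ _ θ ρ rfl _ rfl ξ' rfl h').1 hm₂
    exact germ_eq_of_extPt F ρ rfl q₁ q₂ a₁ a₂ ((bijective_germUnit f F h').1 (e₁.symm.trans e₂))
  have hclopen : ∀ c, IsClopen (O c) := fun c => by
    refine ⟨⟨?_⟩, hO c⟩
    rw [isOpen_iff_forall_mem_open]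
    intro z hz
    obtain ⟨c', hc'⟩ := hcover z
    exact ⟨O c', fun w hw hwc => hz (hdisj w c' c hw hwc ▸ hc'), hO c', hc'⟩
  let θ₁ : Spec (CommRingCat.of Ω) ⟶ Q := pullback.lift ξ₁ (𝟙 _) (by rw [h₁, Category.id_comp])
  let θ₂ : Spec (CommRingCat.of Ω) ⟶ Q := pullback.lift ξ₂ (𝟙 _) (by rw [h₂, Category.id_comp])
  have hext : ∀ {W : S.Etale} (q : (Scheme.pointSmallEtale η).fiber.obj W),
      extPt (𝟙 (Spec (CommRingCat.of Ω))) (Category.id_comp η) q = q := fun q =>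
    Over.OverMorphism.ext (Category.id_comp _)
  have hθ : θ₁.base default ∈ O c := by
    obtain ⟨W, g, q, a, hg, rfl⟩ := hrefine c
    refine hmem.2 ⟨W, g, q, a, hg, rfl, ?_⟩
    refine (key W g q a hg Ω θ₁ (𝟙 _) (pullback.lift_snd _ _ _) η (Category.id_comp _) ξ₁
      (pullback.lift_fst _ _ _) h₁).2 ?_
    rw [hext, hext]
    exact hc
  have huniv : O c = Set.univ := (hclopen c).eq_univ ⟨_, hθ⟩
  obtain ⟨W, g, q, a, hg, rfl, hm⟩ := hmem.1 (huniv ▸ Set.mem_univ (θ₂.base default))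
  have := (key W g q a hg Ω θ₂ (𝟙 _) (pullback.lift_snd _ _ _) η (Category.id_comp _) ξ₂
    (pullback.lift_fst _ _ _) h₂).1 hm
  rwa [hext, hext] at this

/-- A universally submersive morphism with connected geometric fibres has bijective units. -/
theorem isIso_unit_of_connected (hf : EtDesc.IsUnivSubmersive f)
    (hconn : ∀ (L : Type u) [Field L] [IsSepClosed L] (η : Spec (CommRingCat.of L) ⟶ S),
      ConnectedSpace ↥(pullback f η))
    (F : EtDesc.Sh S) : IsIso ((EtDesc.adjSh f).unit.app F) := by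
  have hb : ∀ V : S.Etale, Function.Bijective (unitSh f F V) := fun V =>
    ⟨unitSh_injective f hf F V, fun t => exists_unitSh_eq f hf F V t
      fun L _ _ η ξ₁ ξ₂ h₁ h₂ p c h => by
        haveI := hconn L η
        exact germ_eq_of_connected f F V t ξ₁ ξ₂ h₁ h₂ p c h⟩
  haveI : ∀ V, IsIso (((EtDesc.adjSh f).unit.app F).hom.app V) := fun V =>
    (ConcreteCategory.isIso_iff_bijective _).2 (hb V.unop)
  haveI : IsIso ((sheafToPresheaf _ _).map ((EtDesc.adjSh f).unit.app F)) :=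
    (NatTrans.isIso_iff_isIso_app _).2 fun V =>
      show IsIso (((EtDesc.adjSh f).unit.app F).hom.app V) from inferInstance
  exact isIso_of_reflects_iso _ (sheafToPresheaf _ _)

/-- The criterion for zero-acyclicity. -/
theorem isZeroAcyclic_of_connected {A B : Scheme.{u}} (h : A ⟶ B) (hs : EtDesc.IsUnivSubmersive h)
    (hconn : ∀ (L : Type u) [Field L] [IsSepClosed L] (η : Spec (CommRingCat.of L) ⟶ B),
      ConnectedSpace ↥(pullback h η)) : EtAcyc.IsZeroAcyclic h := by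
  intro V F
  refine isIso_unit_of_connected _ ?_ (fun L _ _ η => ?_) F
  · intro T k
    let e : pullback (EtAcyc.prj h V) k ≅ pullback h (k ≫ V.hom) :=
      ((IsPullback.of_hasPullback (EtAcyc.prj h V) k).flip.paste_vert
        (IsPullback.of_hasPullback V.hom h) |>.flip.isoPullback)
    have he : pullback.snd (EtAcyc.prj h V) k = e.hom ≫ pullback.snd h (k ≫ V.hom) := by
      simp [e]
    obtain ⟨h1, h2⟩ := hs T (k ≫ V.hom)
    rw [he]
    refine ⟨fun z => ?_, ?_⟩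
    · obtain ⟨w, rfl⟩ := h1 z
      obtain ⟨w', rfl⟩ := e.hom.homeomorph.surjective w
      exact ⟨w', rfl⟩
    · exact h2.comp e.hom.homeomorph.isQuotientMap
  · haveI := hconn L (η ≫ V.hom)
    let e : pullback (EtAcyc.prj h V) η ≅ pullback h (η ≫ V.hom) :=
      ((IsPullback.of_hasPullback (EtAcyc.prj h V) η).flip.paste_vert
        (IsPullback.of_hasPullback V.hom h) |>.flip.isoPullback)
    exact (Scheme.homeoOfIso e).connectedSpace_iff.2 ‹_›

end Groth.Agent.Lib.EtDiscrete
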