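import Groth.Agent.Lib.EtDiscrete.Const
import Groth.Agent.Lib.Henselian.StrictHenselization
import Mathlib.RingTheory.Spectrum.Prime.Topology

/-!
# Idempotents of the fibres of maps of strict localizations over a field
-/

set_option autoImplicit false

universe u

open TensorProduct IsLocalRing
open Groth.Agent.Lib.EtSite.LimTensor Groth.Agent.Lib.Henselian.Pointed

noncomputable section

namespace Groth.Agent.Lib.EtDiscrete

/-- Idempotents of `RX ⊗[RY] F` from a comparison of `(RX ⊗[RY] B)_red` with a ring with dichotomy. -/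
theorem idem_trivial_of_comparison {RY RX B F : Type u} [CommRing RY] [CommRing RX] [CommRing B]
    [IsDomain B] [Algebra RY RX] [Algebra RY B] [Field F] [Algebra B F] [IsFractionRing B F]
    [Algebra RY F] [IsScalarTower RY B F] [IsLocalRing (RX ⊗[RY] B)] {D : Type u} [CommRing D]
    (Φ : D →+* (RX ⊗[RY] B) ⧸ nilradical (RX ⊗[RY] B)) (jB : B →+* D)
    (hΦB₀ : ∀ b, Φ (jB b) = Ideal.Quotient.mk _ ((1 : RX) ⊗ₜ[RY] b))
    (hlift : ∀ g, ∃ d, Φ d = g) (hker : ∀ x, Φ x = 0 → ∃ t, IsUnit (Φ t) ∧ t * x = 0)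
    (hdich : ∀ b : B, b ≠ 0 → (∀ d : D, jB b * d = 0 → d = 0) ∧
      ∀ t d : D, t * (d * d - jB b * d) = 0 → ∃ x, jB b * x = t * d ∧ x * x = t * x) :
    Nontrivial (RX ⊗[RY] F) ∧ ∀ e : RX ⊗[RY] F, e * e = e → e = 0 ∨ e = 1 := by
  classical
  let G := RX ⊗[RY] B
  let G' := G ⧸ nilradical G
  haveI : Nontrivial G' := Ideal.Quotient.nontrivial_iff.2 fun h => by
    have := (Ideal.eq_top_iff_one _).1 h
    exact not_isNilpotent_one (mem_nilradical.1 this)
  haveI : IsLocalRing G' :=
    IsLocalRing.of_surjective' (Ideal.Quotient.mk _) Ideal.Quotient.mk_surjective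
  let ιB : B →+* G' := (Ideal.Quotient.mk _).comp
    (Algebra.TensorProduct.includeRight : B →ₐ[RY] G).toRingHom
  have hΦB : ∀ b, Φ (jB b) = ιB b := hΦB₀
  letI : Algebra G (RX ⊗[RY] F) :=
    (Algebra.TensorProduct.map (AlgHom.id RY RX) (IsScalarTower.toAlgHom RY B F)).toRingHom.toAlgebra
  haveI : IsScalarTower RX G (RX ⊗[RY] F) :=
    .of_algebraMap_eq fun x => by simp [G, RingHom.algebraMap_toAlgebra]
  let MB : Submonoid G :=
    (nonZeroDivisors B).map (Algebra.TensorProduct.includeRight (R := RY) (A := RX) (B := B))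
  haveI hloc : IsLocalization MB (RX ⊗[RY] F) :=
    IsLocalization.tensorProduct_tensorProduct_right RY RX (nonZeroDivisors B) F
      (by ext; simp [G, RingHom.algebraMap_toAlgebra])
  have hbz : ∀ b : B, b ≠ 0 → ιB b ≠ 0 := fun b hb h => by
    obtain ⟨t, ht, htx⟩ := hker (jB b) ((hΦB b).trans h)
    rw [(hdich b hb).1 t (by rwa [mul_comm]), map_zero] at ht
    exact not_isUnit_zero ht
  refine ⟨⟨⟨0, 1, fun h01 => ?_⟩⟩, fun e he => ?_⟩
  · have : algebraMap G (RX ⊗[RY] F) 1 = 0 := by rw [map_one]; exact h01.symm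
    obtain ⟨⟨_, b, hb, rfl⟩, hb'⟩ := (IsLocalization.map_eq_zero_iff MB _ _).1 this
    rw [mul_one] at hb'
    exact hbz b (nonZeroDivisors.ne_zero hb) (by
      change Ideal.Quotient.mk _ ((1 : RX) ⊗ₜ[RY] b) = 0
      rw [show (1 : RX) ⊗ₜ[RY] b = 0 from hb', map_zero])
  obtain ⟨⟨g, ⟨_, b, hb, rfl⟩⟩, hge⟩ := IsLocalization.surj MB e
  simp only at hge
  let gb : G := Algebra.TensorProduct.includeRight (R := RY) (A := RX) (B := B) b
  have hrel : algebraMap G (RX ⊗[RY] F) (g * g - gb * g) = 0 := by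
    rw [map_sub, map_mul, map_mul, ← hge]
    linear_combination (algebraMap G (RX ⊗[RY] F) gb * algebraMap G (RX ⊗[RY] F) gb) * he
  obtain ⟨⟨_, c, hc, rfl⟩, hc'⟩ := (IsLocalization.map_eq_zero_iff MB _ _).1 hrel
  let gc : G := Algebra.TensorProduct.includeRight (R := RY) (A := RX) (B := B) c
  have hgbc : Algebra.TensorProduct.includeRight (R := RY) (A := RX) (B := B) (c * b) = gc * gb :=
    map_mul _ _ _
  have hcb : c * b ≠ 0 := mul_ne_zero (nonZeroDivisors.ne_zero hc) (nonZeroDivisors.ne_zero hb)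
  let g' : G' := Ideal.Quotient.mk _ (gc * g)
  have hg' : g' * g' - ιB (c * b) * g' = 0 := by
    simp only [g', ιB, RingHom.comp_apply]
    rw [show (Algebra.TensorProduct.includeRight : B →ₐ[RY] G).toRingHom (c * b) = gc * gb from hgbc,
      ← map_mul, ← map_mul, ← map_sub]
    rw [show gc * g * (gc * g) - gc * gb * (gc * g) = gc * (gc * (g * g - gb * g)) by ring]
    rw [show gc * (g * g - gb * g) = 0 from hc', mul_zero, map_zero]
  obtain ⟨d, hd⟩ := hlift g'
  obtain ⟨t, ht, htd⟩ := hker (d * d - jB (c * b) * d) (by rw [map_sub, map_mul, map_mul, hΦB, hd, hg'])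
  obtain ⟨x, hx, hxx⟩ := (hdich _ hcb).2 t d htd
  have hut : IsUnit (Φ t) := ht
  have hx' : ιB (c * b) * Φ x = Φ t * g' := by rw [← hΦB, ← map_mul, hx, map_mul, hd]
  have hxx' : Φ x * (Φ x - Φ t) = 0 := by rw [mul_sub, ← map_mul, ← map_mul, hxx, mul_comm t x, sub_self]
  have hfin : g' = 0 ∨ g' = ιB (c * b) := by
    rcases IsLocalRing.isUnit_or_isUnit_of_isUnit_add
      (a := Φ x) (b := Φ t - Φ x) (by rwa [add_sub_cancel]) with h | h
    · right
      have h0 : Φ x - Φ t = 0 := h.mul_right_eq_zero.1 hxx'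
      rw [sub_eq_zero] at h0
      rw [h0, mul_comm] at hx'
      exact (hut.mul_left_cancel hx').symm
    · left
      have h0 : Φ x = 0 := by
        have : (Φ t - Φ x) * Φ x = 0 := by rw [← neg_sub, neg_mul, mul_comm, hxx', neg_zero]
        exact h.mul_right_eq_zero.1 this
      rw [h0, mul_zero] at hx'
      exact hut.mul_right_eq_zero.1 hx'.symm
  have hu : IsUnit (algebraMap G (RX ⊗[RY] F) (gc * gb)) := by
    rw [← hgbc]
    exact IsLocalization.map_units _ (⟨_, c * b, mul_mem hc hb, rfl⟩ : MB)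
  have hev : algebraMap G (RX ⊗[RY] F) (gc * g) = e * algebraMap G (RX ⊗[RY] F) (gc * gb) := by
    rw [map_mul, map_mul, ← hge]
    change _ = e * (_ * algebraMap G (RX ⊗[RY] F) gb)
    ring
  rcases hfin with h | h
  · left
    have hn : IsNilpotent (e * algebraMap G (RX ⊗[RY] F) (gc * gb)) :=
      hev ▸ ((mem_nilradical.1 (Ideal.Quotient.eq_zero_iff_mem.1 h)).map (algebraMap G (RX ⊗[RY] F)))
    obtain ⟨n, hn⟩ := hn
    have : e ^ n = 0 := by
      rw [mul_pow] at hn
      exact (hu.pow n).mul_left_eq_zero.1 hn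
    rcases n with _ | n
    · rw [pow_zero] at this
      rw [← mul_one e, this, mul_zero]
    · rwa [IsIdempotentElem.pow_succ_eq n he] at this
  · right
    have hmem : gc * g - gc * gb ∈ nilradical G := by
      rw [← Ideal.Quotient.eq_zero_iff_mem, map_sub]
      rw [show Ideal.Quotient.mk (nilradical G) (gc * g) = g' from rfl, h]
      simp only [ιB, RingHom.comp_apply]
      rw [show (Algebra.TensorProduct.includeRight : B →ₐ[RY] G).toRingHom (c * b) = gc * gb from hgbc,
        sub_self]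
    obtain ⟨n, hn⟩ := (mem_nilradical.1 hmem).map (algebraMap G (RX ⊗[RY] F))
    have : (1 - e) ^ n = 0 := by
      rw [map_sub, hev, show e * algebraMap G (RX ⊗[RY] F) (gc * gb) -
        algebraMap G (RX ⊗[RY] F) (gc * gb) = (1 - e) * -(algebraMap G (RX ⊗[RY] F) (gc * gb)) by ring,
        mul_pow] at hn
      exact (hu.neg.pow n).mul_left_eq_zero.1 hn
    have he' : IsIdempotentElem (1 - e) := IsIdempotentElem.one_sub he
    rcases n with _ | n
    · rw [pow_zero] at this
      rw [← mul_one e, this, mul_zero]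
    · rw [IsIdempotentElem.pow_succ_eq n he', sub_eq_zero] at this
      exact this.symm

set_option maxHeartbeats 800000 in
/-- The idempotents of `RX ⊗[RY] F` for strict localizations, given a constants extension `C₀`. -/
theorem idem_trivial_of_constants {T₀ O R OY RY RX B F : Type u} [CommRing T₀] [CommRing O]
    [Algebra T₀ O] (M : Submonoid T₀) [IsLocalization M O] [CommRing R] (ι : R →+* T₀)
    [CommRing OY] [Algebra R OY] (MY : Submonoid R) [IsLocalization MY OY]
    [CommRing RY] [Algebra OY RY] [Algebra R RY] [IsScalarTower R OY RY]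
    [CommRing RX] [Algebra RY RX] [Algebra O RX]
    (hcomp : ∀ r : R, algebraMap RY RX (algebraMap R RY r) = algebraMap O RX (algebraMap T₀ O (ι r)))
    {Ω : Type u} [CommRing Ω] [Algebra O Ω] (eX : Lim O Ω ≃ₐ[O] RX)
    {ΩY : Type u} [CommRing ΩY] [Algebra OY ΩY] (eY : Lim OY ΩY ≃ₐ[OY] RY)
    [CommRing B] [IsDomain B] [Algebra RY B] [Field F] [Algebra B F] [IsFractionRing B F]
    [Algebra RY F] [IsScalarTower RY B F] [IsLocalRing (RX ⊗[RY] B)]
    {C₀ C₀' : Type u} [CommRing C₀] [CommRing C₀'] (σ₁ : C₀ →+* C₀') (κ : T₀ →+* C₀)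
    (jb : B →+* C₀) (hC₀' : EGA4.IsNormalRing C₀') (hσ₁ : Function.Injective σ₁)
    (hκ : ∀ r : R, κ (ι r) = jb (algebraMap RY B (algebraMap R RY r)))
    (hreg : ∀ b : B, b ≠ 0 → (∀ c, jb b * c = 0 → c = 0) ∧
      ∀ c v, σ₁ c = σ₁ (jb b) * v → jb b ∣ c)
    (hgen : ∀ (T : Type u) [CommRing T] (f g : C₀ →+* T),
      f.comp κ = g.comp κ → f.comp jb = g.comp jb → f = g)
    (huniv : ∀ (T : Type u) [CommRing T] [IsReduced T] (g : T₀ →+* T) (f : B →+* T),
      (∀ r : R, g (ι r) = f (algebraMap RY B (algebraMap R RY r))) →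
      ∃ h : C₀ →+* T, h.comp κ = g ∧ h.comp jb = f) :
    Nontrivial (RX ⊗[RY] F) ∧ ∀ e : RX ⊗[RY] F, e * e = e → e = 0 ∨ e = 1 := by
  classical
  let G := RX ⊗[RY] B
  let G' := G ⧸ nilradical G
  haveI : IsReduced G' := (Ideal.isRadical_iff_quotient_reduced _).1 (Ideal.radical_isRadical _)
  haveI : Nontrivial G' := Ideal.Quotient.nontrivial_iff.2 fun h => by
    have := (Ideal.eq_top_iff_one _).1 h
    exact not_isNilpotent_one (mem_nilradical.1 this)
  haveI : IsLocalRing G' :=
    IsLocalRing.of_surjective' (Ideal.Quotient.mk _) Ideal.Quotient.mk_surjective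
  let ιX : RX →+* G' := (Ideal.Quotient.mk _).comp Algebra.TensorProduct.includeLeftRingHom
  let ιB : B →+* G' := (Ideal.Quotient.mk _).comp
    (Algebra.TensorProduct.includeRight : B →ₐ[RY] G).toRingHom
  have hιRY : ∀ y : RY, ιX (algebraMap RY RX y) = ιB (algebraMap RY B y) := fun y => by
    simp only [ιX, ιB, RingHom.comp_apply]
    congr 1
    change algebraMap RY RX y ⊗ₜ[RY] (1 : B) = (1 : RX) ⊗ₜ[RY] algebraMap RY B y
    rw [Algebra.algebraMap_eq_smul_one, Algebra.algebraMap_eq_smul_one, TensorProduct.smul_tmul]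
  obtain ⟨fC₀, hfκ, hfb⟩ := huniv G' (ιX.comp ((algebraMap O RX).comp (algebraMap T₀ O))) ιB
    fun r => (congrArg ιX (hcomp r)).symm.trans (hιRY _)
  let MC : Submonoid C₀ := M.map κ
  let MC' : Submonoid C₀' := MC.map σ₁
  let C := Localization MC
  let C' := Localization MC'
  letI : Algebra O C := (IsLocalization.map (M := M) (T := MC) C κ
    (fun x hx => ⟨x, hx, rfl⟩) : O →+* C).toAlgebra
  have hOC : ∀ c, algebraMap O C (algebraMap T₀ O c) = algebraMap C₀ C (κ c) := fun c =>
    IsLocalization.map_eq _ c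
  let σC : C →+* C' := IsLocalization.map (M := MC) (T := MC') C' σ₁
    (fun x hx => ⟨x, hx, rfl⟩)
  letI : Algebra O C' := (σC.comp (algebraMap O C)).toAlgebra
  let σ : C →ₐ[O] C' := { σC with commutes' := fun _ => rfl }
  have hσeq : ∀ c, σ (algebraMap C₀ C c) = algebraMap C₀' C' (σ₁ c) := fun c =>
    IsLocalization.map_eq (M := MC) (T := MC') (S := C) (Q := C')
      (fun x hx => (⟨x, hx, rfl⟩ : σ₁ x ∈ MC')) c
  have hC' : EGA4.IsNormalRing C' := Excellent.NormalRing.isNormalRing_of_isLocalization MC' hC₀'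
  have hσ : Function.Injective σ := IsLocalization.map_injective_of_injective MC C C' hσ₁
  have hfC : ∀ y : MC, IsUnit (fC₀ y) := by
    rintro ⟨_, x, hx, rfl⟩
    rw [show fC₀ ((⟨κ x, x, hx, rfl⟩ : MC) : C₀) = _ from RingHom.congr_fun hfκ x]
    exact ((IsLocalization.map_units O (⟨x, hx⟩ : M)).map (algebraMap O RX)).map ιX
  let fC : C →+* G' := IsLocalization.lift (M := MC) (S := C) (P := G') (g := fC₀) hfC
  let D := Lim O Ω ⊗[O] C
  have hΦc : (ιX.comp eX.toAlgHom.toRingHom).comp (algebraMap O (Lim O Ω)) =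
      fC.comp (algebraMap O C) := by
    refine IsLocalization.ringHom_ext M (RingHom.ext fun c => ?_)
    simp only [RingHom.comp_apply]
    rw [hOC, show fC (algebraMap C₀ C (κ c)) = fC₀ (κ c) from IsLocalization.lift_eq _ _]
    refine Eq.trans (congrArg ιX (eX.commutes _)) ?_
    exact (RingHom.congr_fun hfκ c).symm
  let Φ : D →+* G' := tlift (X := G') (ιX.comp eX.toAlgHom.toRingHom) fC hΦc
  let jX : RX →+* D := (Algebra.TensorProduct.includeLeftRingHom : Lim O Ω →+* D).comp
    eX.symm.toAlgHom.toRingHom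
  let jC : C₀ →+* D := (Algebra.TensorProduct.includeRight : C →ₐ[O] D).toRingHom.comp (algebraMap C₀ C)
  let jB : B →+* D := jC.comp jb
  have hΦX : ∀ x, Φ (jX x) = ιX x := fun x => by
    change Φ (eX.symm x ⊗ₜ 1) = _
    rw [tlift_tmul, map_one, mul_one]
    exact congrArg ιX (eX.apply_symm_apply x)
  have hΦC : ∀ c, Φ (jC c) = fC₀ c := fun c => by
    change Φ ((1 : Lim O Ω) ⊗ₜ algebraMap C₀ C c) = _
    rw [tlift_tmul, map_one, one_mul]
    exact IsLocalization.lift_eq _ _
  have hΦB : ∀ b, Φ (jB b) = ιB b := fun b => (hΦC (jb b)).trans (RingHom.congr_fun hfb b)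
  have hjκ : ∀ c, jC (κ c) = jX (algebraMap O RX (algebraMap T₀ O c)) := fun c => by
    change (1 : Lim O Ω) ⊗ₜ algebraMap C₀ C (κ c) = eX.symm (algebraMap O RX _) ⊗ₜ (1 : C)
    rw [eX.symm.commutes, ← hOC, Algebra.algebraMap_eq_smul_one (A := C),
      Algebra.algebraMap_eq_smul_one (A := Lim O Ω), TensorProduct.smul_tmul]
  let P : Ideal D := (maximalIdeal G').comap Φ
  haveI : P.IsPrime := Ideal.comap_isPrime _ _
  let DP := Localization.AtPrime P
  letI : CommRing DP := (inferInstance : CommRing (Localization P.primeCompl))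
  let aX : RX →+* DP := (algebraMap D DP).comp jX
  let aB : B →+* DP := (algebraMap D DP).comp jB
  -- rigidity
  have hrig : ∀ y : RY, aX (algebraMap RY RX y) = aB (algebraMap RY B y) := by
    intro y
    let f₁ : RY →+* DP := aX.comp (algebraMap RY RX)
    let f₂ : RY →+* DP := aB.comp (algebraMap RY B)
    have hR : f₁.comp (algebraMap OY RY) = f₂.comp (algebraMap OY RY) := by
      refine IsLocalization.ringHom_ext MY (RingHom.ext fun r => ?_)
      simp only [RingHom.comp_apply, ← IsScalarTower.algebraMap_apply R OY RY, f₁, f₂, aX, aB, jB]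
      congr 1
      rw [hcomp, ← hjκ, hκ]
    obtain ⟨Y, _, _, _, φ, hφ⟩ := Lim.exists_etale_range {eY.symm y}
    obtain ⟨y', hy'⟩ := hφ (Finset.mem_singleton_self _)
    letI : Algebra OY DP := (f₁.comp (algebraMap OY RY)).toAlgebra
    let φ₁ : Y →ₐ[OY] DP := { f₁.comp ((eY.toAlgHom.comp φ).toRingHom) with
      commutes' := fun o => congrArg f₁ ((eY.toAlgHom.comp φ).commutes o) }
    let φ₂ : Y →ₐ[OY] DP := { f₂.comp ((eY.toAlgHom.comp φ).toRingHom) with
      commutes' := fun o => (congrArg f₂ ((eY.toAlgHom.comp φ).commutes o)).trans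
        (RingHom.congr_fun hR o).symm }
    let α : DP →+* ResidueField DP := residue DP
    haveI : IsLocalHom α := inferInstanceAs (IsLocalHom (residue DP))
    have heq : φ₁ = φ₂ := by
      refine Groth.Agent.Lib.Henselian.Etale.algHom_ext_of_isLocalHom α φ₁ φ₂ fun z => ?_
      let w := eY (φ z)
      change residue DP (f₁ w) = residue DP (f₂ w)
      rw [← sub_eq_zero, ← map_sub, residue_eq_zero_iff]
      simp only [f₁, f₂, aX, aB, RingHom.comp_apply, ← map_sub]
      rw [IsLocalization.AtPrime.to_map_mem_maximal_iff DP P]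
      change Φ (jX (algebraMap RY RX w) - jB (algebraMap RY B w)) ∈ maximalIdeal G'
      rw [map_sub, hΦX, hΦB, hιRY, sub_self]
      exact Ideal.zero_mem _
    have := congrArg (fun ψ : Y →ₐ[OY] DP => ψ y') heq
    change f₁ (eY (φ y')) = f₂ (eY (φ y')) at this
    rwa [hy', eY.apply_symm_apply] at this
  -- the dichotomy data
  have hdich : ∀ b : B, b ≠ 0 → IsReduced D ∧
      (∀ d : D, jB b * d = 0 → d = 0) ∧
      ∀ t d : D, t * (d * d - jB b * d) = 0 → ∃ x, jB b * x = t * d ∧ x * x = t * x := by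
    intro b hb
    obtain ⟨hreg₀, hdiv₀⟩ := hreg b hb
    let b₀ : C₀ := jb b
    have hdiv : ∀ c : C, σ (algebraMap C₀ C b₀) ∣ σ c → algebraMap C₀ C b₀ ∣ c := by
      intro c ⟨v, hv⟩
      obtain ⟨⟨x, s⟩, hxs⟩ := IsLocalization.surj MC c
      obtain ⟨⟨y, s'⟩, hys⟩ := IsLocalization.surj MC' v
      simp only at hxs hys
      have h1 : algebraMap C₀' C' (σ₁ x * s') = algebraMap C₀' C' (σ₁ b₀ * y * σ₁ s) := by
        rw [map_mul, map_mul, map_mul, ← hys, ← hσeq, ← hxs, map_mul, hv, hσeq, hσeq]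
        ring
      obtain ⟨⟨_, u, hu, rfl⟩, hu'⟩ := (IsLocalization.eq_iff_exists MC' C').1 h1
      obtain ⟨z, hz, hzs⟩ := s'.2
      obtain ⟨m, hm⟩ := hdiv₀ (u * x * z) (σ₁ u * y * σ₁ s) (by
        rw [map_mul, map_mul, show σ₁ z = (s' : C₀') from hzs, mul_assoc]
        refine hu'.trans ?_
        change σ₁ u * _ = _
        ring)
      have hU : IsUnit (algebraMap C₀ C u * algebraMap C₀ C s * algebraMap C₀ C z) :=
        ((IsLocalization.map_units C (⟨u, hu⟩ : MC)).mul (IsLocalization.map_units C s)).mul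
          (IsLocalization.map_units C (⟨z, hz⟩ : MC))
      refine (IsUnit.dvd_mul_right hU).1 ⟨algebraMap C₀ C m, ?_⟩
      rw [← map_mul (algebraMap C₀ C) b₀, ← hm, map_mul, map_mul, ← hxs]
      ring
    have hreg : ∀ c : C, algebraMap C₀ C b₀ * c = 0 → c = 0 := by
      intro c hc
      obtain ⟨⟨x, s⟩, hxs⟩ := IsLocalization.surj MC c
      simp only at hxs
      have h1 : algebraMap C₀ C (b₀ * x) = 0 := by rw [map_mul, ← hxs, ← mul_assoc, hc, zero_mul]
      obtain ⟨u, hu⟩ := (IsLocalization.map_eq_zero_iff MC C _).1 h1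
      have hx0 := hreg₀ ((u : C₀) * x) (by rw [← hu]; ring)
      have : c * algebraMap C₀ C s = 0 := by
        rw [hxs]
        exact (IsLocalization.map_eq_zero_iff MC C _).2 ⟨u, hx0⟩
      exact (IsLocalization.map_units C s).mul_left_eq_zero.1 this
    exact exists_idem_lim hC' σ hσ (algebraMap C₀ C b₀) hdiv hreg
  have hDred : IsReduced D := (hdich 1 one_ne_zero).1
  haveI : IsReduced DP := (inferInstance : IsReduced (Localization P.primeCompl))
  let h₀ : G →+* DP := tlift (X := DP) aX aB (RingHom.ext hrig)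
  let h' : G' →+* DP := Ideal.Quotient.lift _ h₀ fun a ha => ((mem_nilradical.1 ha).map h₀).eq_zero
  have hh'X : ∀ x, h' (ιX x) = aX x := fun x => by
    change h₀ (x ⊗ₜ 1) = _
    rw [tlift_tmul, map_one, mul_one]
  have hh'B : ∀ b, h' (ιB b) = aB b := fun b => by
    change h₀ ((1 : RX) ⊗ₜ b) = _
    rw [tlift_tmul, map_one, one_mul]
  have hC₀eq : ∀ c : C₀, h' (Φ (jC c)) = algebraMap D DP (jC c) := by
    refine RingHom.congr_fun (hgen DP ((h'.comp Φ).comp jC) ((algebraMap D DP).comp jC) ?_ ?_)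
    · refine RingHom.ext fun c => ?_
      simp only [RingHom.comp_apply]
      rw [hjκ, hΦX, hh'X]
      rfl
    · refine RingHom.ext fun b => ?_
      exact (congrArg h' (hΦB b)).trans (hh'B b)
  have hΦsect : h'.comp Φ = algebraMap D DP := by
    refine RingHom.ext fun d => ?_
    induction d using TensorProduct.induction_on with
    | zero => simp
    | tmul l c =>
      rw [show l ⊗ₜ[O] c = jX (eX l) * ((1 : Lim O Ω) ⊗ₜ[O] c) by
        change _ = eX.symm (eX l) ⊗ₜ (1 : C) * _
        rw [eX.symm_apply_apply, Algebra.TensorProduct.tmul_mul_tmul, mul_one, one_mul]]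
      rw [map_mul, map_mul]
      congr 1
      · simp only [RingHom.comp_apply, hΦX, hh'X]
        rfl
      · obtain ⟨⟨x, s⟩, hxs⟩ := IsLocalization.surj MC c
        simp only at hxs
        have hu : IsUnit (algebraMap D DP (jC s)) :=
          (((IsLocalization.map_units C s).map
            (Algebra.TensorProduct.includeRight : C →ₐ[O] D).toRingHom)).map _
        apply hu.mul_left_injective
        change h' (Φ _) * algebraMap D DP (jC s) = algebraMap D DP _ * algebraMap D DP (jC s)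
        rw [← hC₀eq, ← map_mul, ← map_mul, hC₀eq, ← map_mul]
        have hmul : (1 : Lim O Ω) ⊗ₜ[O] c * jC (s : C₀) = jC x := by
          change (1 : Lim O Ω) ⊗ₜ[O] c * ((1 : Lim O Ω) ⊗ₜ[O] algebraMap C₀ C s) = _
          rw [Algebra.TensorProduct.tmul_mul_tmul, one_mul, hxs]
          rfl
        rw [hmul, hC₀eq]
    | add x y hx hy => rw [map_add, map_add, hx, hy]
  have hker : ∀ x, Φ x = 0 → ∃ t : D, IsUnit (Φ t) ∧ t * x = 0 := fun x hx => by
    have h := RingHom.congr_fun hΦsect x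
    rw [RingHom.comp_apply, hx, map_zero] at h
    obtain ⟨⟨t, ht⟩, htx⟩ := (IsLocalization.map_eq_zero_iff P.primeCompl DP x).1 h.symm
    exact ⟨t, of_not_not fun hu => ht ((mem_maximalIdeal _).2 hu), htx⟩
  have hlift : ∀ g : G', ∃ d : D, Φ d = g := by
    intro g
    obtain ⟨g, rfl⟩ := Ideal.Quotient.mk_surjective g
    induction g using TensorProduct.induction_on with
    | zero => exact ⟨0, by simp⟩
    | tmul x b =>
      refine ⟨jX x * jB b, ?_⟩
      rw [map_mul, hΦX, hΦB]
      simp only [ιX, ιB, RingHom.comp_apply, ← map_mul]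
      congr 1
      change x ⊗ₜ[RY] (1 : B) * (1 : RX) ⊗ₜ[RY] b = _
      rw [Algebra.TensorProduct.tmul_mul_tmul, mul_one, one_mul]
    | add x y hx hy =>
      obtain ⟨d₁, h₁⟩ := hx
      obtain ⟨d₂, h₂⟩ := hy
      exact ⟨d₁ + d₂, by rw [map_add, map_add, h₁, h₂]⟩
  exact idem_trivial_of_comparison Φ jB hΦB hlift hker fun b hb => (hdich b hb).2

variable {Λ k : Type u} [CommRing Λ] [Field k] [Algebra Λ k]
  {R A : Type u} [CommRing R] [Algebra Λ R] [CommRing A] [Algebra Λ A]
  {O : Type u} [CommRing O] [Algebra (R ⊗[Λ] A) O] (M : Submonoid (R ⊗[Λ] A))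
  {OY : Type u} [CommRing OY] [Algebra R OY] (MY : Submonoid R)
  {RY RX : Type u} [CommRing RY] [CommRing RX] [Algebra OY RY] [Algebra R RY] [Algebra Λ RY]
  [Algebra RY RX] [Algebra O RX]

/-- The base change of `RY → RX` to an algebraically closed field has no nontrivial idempotents. -/
theorem idem_trivial [IsLocalization M O] [IsLocalization MY OY] [IsScalarTower R OY RY]
    [IsScalarTower Λ R RY] [IsLocalRing RX] [HenselianLocalRing RY] [IsSepClosed (ResidueField RY)]
    [IsLocalHom (algebraMap RY RX)]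
    (hsurj : Function.Surjective (algebraMap Λ k))
    (hcomp : ∀ r : R, algebraMap RY RX (algebraMap R RY r) =
      algebraMap O RX (algebraMap (R ⊗[Λ] A) O (r ⊗ₜ 1)))
    {Ω : Type u} [CommRing Ω] [Algebra O Ω] (eX : Lim O Ω ≃ₐ[O] RX)
    {ΩY : Type u} [CommRing ΩY] [Algebra OY ΩY] (eY : Lim OY ΩY ≃ₐ[OY] RY)
    (F₀ : Type u) [Field F₀] [IsAlgClosed F₀] [Algebra RY F₀] [Algebra k F₀]
    (hk : ∀ l : Λ, algebraMap k F₀ (algebraMap Λ k l) = algebraMap RY F₀ (algebraMap Λ RY l)) :
    Nontrivial (RX ⊗[RY] FractionRing (integralClosure RY F₀)) ∧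
      IsAlgClosed (FractionRing (integralClosure RY F₀)) ∧
      ∀ e : RX ⊗[RY] FractionRing (integralClosure RY F₀), e * e = e → e = 0 ∨ e = 1 := by
  obtain ⟨C₀, C₀', _, _, σ₁, κ, jb, h1, h2, h3, h4, h5, h6⟩ :=
    exists_constants (R := R) (A := A) hsurj F₀ hk
  haveI : IsLocalRing (RX ⊗[RY] integralClosure RY F₀) := isLocalRing_tensor
  have h := idem_trivial_of_constants (F := FractionRing (integralClosure RY F₀)) M
    (Algebra.TensorProduct.includeLeftRingHom : R →+* R ⊗[Λ] A) MY hcomp eX eY σ₁ κ jb h1 h2 h3 h4 h5 h6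
  exact ⟨h.1, isAlgClosed_fractionRing_integralClosure RY F₀, h.2⟩

end Groth.Agent.Lib.EtDiscrete
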