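import Groth.Agent.Lib.EtSite.FppfDescent

/-!
# Compatible sections from a universally submersive refinement of an étale neighbourhood
-/

set_option autoImplicit false

universe u

open CategoryTheory CategoryTheory.Limits AlgebraicGeometry Opposite

noncomputable section

namespace Groth.Agent.Lib.EtDiscrete

open Groth.Agent.Lib.EtSite Groth.Agent.Lib.EtSite.Basic Groth.Agent.Lib.EtSite.SubDescent
open Groth.Agent.Lib.EtSite.PushStalk Groth.Agent.Lib.EtSite.SubSheaf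
open Groth.Agent.Lib.EtSite.Effective Groth.Agent.Lib.EtSite.FppfDescent

theorem isUnivSubmersive_snd {Z W U : Scheme.{u}} (π : Z ⟶ W) (hπ : EtDesc.IsUnivSubmersive π)
    (ρ : U ⟶ W) : EtDesc.IsUnivSubmersive (pullback.snd π ρ) := fun Y g => by
  obtain ⟨h1, h2⟩ := hπ Y (g ≫ ρ)
  let e := pullbackLeftPullbackSndIso π ρ g
  have he : pullback.snd (pullback.snd π ρ) g = e.hom ≫ pullback.snd π (g ≫ ρ) :=
    (pullbackLeftPullbackSndIso_hom_snd π ρ g).symm
  rw [he]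
  refine ⟨h1.comp e.hom.surjective, ?_⟩
  exact h2.comp (Scheme.homeoOfIso e).isQuotientMap

variable {X S : Scheme.{u}} (f : X ⟶ S) (F' : EtDesc.Sh X)
  (φ : (EtDesc.pullSh (pullback.fst f f)).obj F' ≅ (EtDesc.pullSh (pullback.snd f f)).obj F')

/-- The section over `bc f W` obtained from a compatible section on a universally submersive
`Z ⟶ W` mapping to `X`. -/
theorem exists_compat_of_submersive (hφ : EtDesc.IsCocycle F' φ) (W : S.Etale) {Z : Scheme.{u}}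
    (π : Z ⟶ W.left) (hπ : EtDesc.IsUnivSubmersive π) (r : Z ⟶ X) (w : r ≫ f = π ≫ W.hom)
    (τ : EtDesc.sect ((EtDesc.pullSh r).obj F') (EtCoh.top Z))
    (hτ : ∀ (Ω : Type u) [Field Ω] [IsSepClosed Ω] (η : Spec (CommRingCat.of Ω) ⟶ S)
      (z₁ z₂ : Spec (CommRingCat.of Ω) ⟶ Z) (_ : z₁ ≫ π = z₂ ≫ π)
      (k₁ : (z₁ ≫ r) ≫ f = η) (k₂ : (z₂ ≫ r) ≫ f = η)
      (y₁ : stalk (z₁ ≫ r) F') (y₂ : stalk (z₂ ≫ r) F'),
      germ z₁ _ (topPt z₁) τ = germUnit r F' rfl y₁ →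
      germ z₂ _ (topPt z₂) τ = germUnit r F' rfl y₂ →
      transport f F' φ k₁ k₂ y₁ = y₂)
    {Ω : Type u} [Field Ω] [IsSepClosed Ω] (ζ₀ : Spec (CommRingCat.of Ω) ⟶ Z)
    (ξ₀ : Spec (CommRingCat.of Ω) ⟶ X) (hξ : ζ₀ ≫ r = ξ₀) (g : stalk ξ₀ F')
    (hg : germ ζ₀ _ (topPt ζ₀) τ = germUnit r F' hξ g) :
    ∃ (q : (Scheme.pointSmallEtale (ξ₀ ≫ f)).fiber.obj W)
      (t : EtDesc.sect F' ((EtCoh.bc f).obj W)),
      Compat f F' φ W t ∧ germ ξ₀ F' (liftPt f rfl W q) t = g := by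
  subst hξ
  let U := (EtCoh.bc f).obj W
  let ρ : U.left ⟶ W.left := pullback.fst W.hom f
  let a := pullback.fst π ρ
  let k := pullback.snd π ρ
  have hk : EtDesc.IsUnivSubmersive k := isUnivSubmersive_snd π hπ ρ
  let A := a ≫ r
  let B := k ≫ U.hom
  have hAB : A ≫ f = B ≫ f := by
    have e₂ : U.hom ≫ f = ρ ≫ W.hom := pullback.condition.symm
    change (a ≫ r) ≫ f = (k ≫ U.hom) ≫ f
    rw [Category.assoc, w, Category.assoc k, e₂, ← Category.assoc, ← Category.assoc k,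
      pullback.condition (f := π) (g := ρ)]
  let m : pullback π ρ ⟶ EtDesc.X2 f := pullback.lift A B hAB
  have w₁ : m ≫ pullback.fst f f = A := pullback.lift_fst _ _ _
  have w₂ : m ≫ pullback.snd f f = B := pullback.lift_snd _ _ _
  let Φ : (EtDesc.pullSh a).obj ((EtDesc.pullSh r).obj F') ⟶
      (EtDesc.pullSh k).obj ((EtDesc.pullSh U.hom).obj F') :=
    (EtDesc.pullVia a r A rfl F').hom ≫
        (EtDesc.pullVia m (pullback.fst f f) A w₁ F').inv ≫ (EtDesc.pullSh m).map φ.hom ≫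
          (EtDesc.pullVia m (pullback.snd f f) B w₂ F').hom ≫
            (EtDesc.pullVia k U.hom B rfl F').inv
  let sY := Φ.hom.app (op (EtCoh.top _)) (EtDesc.secPull a _ τ)
  have hsY : ∀ (Ω' : Type u) [Field Ω'] [IsSepClosed Ω'] (θ : Spec (CommRingCat.of Ω') ⟶ pullback π ρ)
      (z : Spec (CommRingCat.of Ω') ⟶ Z) (hz : θ ≫ a = z)
      (μ : Spec (CommRingCat.of Ω') ⟶ U.left) (hμ : θ ≫ k = μ)
      (ξ : Spec (CommRingCat.of Ω') ⟶ X) (hU : μ ≫ U.hom = ξ)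
      (η' : Spec (CommRingCat.of Ω') ⟶ S) (y : stalk (z ≫ r) F')
      (_ : germ z _ (topPt z) τ = germUnit r F' rfl y)
      (k₁ : (z ≫ r) ≫ f = η') (k₂ : ξ ≫ f = η'),
      germ θ _ (topPt θ) sY =
        germUnit k _ hμ (germUnit U.hom F' hU (transport f F' φ k₁ k₂ y)) := by
    intro Ω' _ _ θ z hz μ hμ ξ hU η' y hy k₁ k₂
    subst hz hμ hU
    have cA : θ ≫ A = (θ ≫ a) ≫ r := (Category.assoc _ _ _).symm
    have m₁ : (θ ≫ m) ≫ pullback.fst f f = (θ ≫ a) ≫ r := by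
      rw [Category.assoc, w₁, cA]
    have cB : θ ≫ B = (θ ≫ k) ≫ U.hom := (Category.assoc _ _ _).symm
    have m₂ : (θ ≫ m) ≫ pullback.snd f f = (θ ≫ k) ≫ U.hom := by rw [Category.assoc, w₂, cB]
    refine (stalkMap_germ θ Φ (topPt θ) _).symm.trans ?_
    rw [germ_secPull a _ rfl, hy]
    simp only [Φ, stalkMap_comp]
    rw [pullVia_germUnit r a A rfl F' rfl rfl cA,
      ← pullVia_germUnit (pullback.fst f f) m A w₁ F' rfl m₁ cA, ← stalkMap_comp θ
        (EtDesc.pullVia m (pullback.fst f f) A w₁ F').hom, Iso.hom_inv_id, stalkMap_id,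
      germUnit_naturality, transport_spec f F' φ m₁ m₂ k₁ k₂,
      pullVia_germUnit (pullback.snd f f) m B w₂ F' rfl m₂ cB,
      ← pullVia_germUnit U.hom k B rfl F' rfl rfl cB, ← stalkMap_comp, Iso.hom_inv_id, stalkMap_id]
  have hval : ∀ (Ω' : Type u) [Field Ω'] [IsSepClosed Ω'] (z : Spec (CommRingCat.of Ω') ⟶ Z),
      ∃ y : stalk (z ≫ r) F', germ z _ (topPt z) τ = germUnit r F' rfl y := by
    intro Ω' _ _ z
    obtain ⟨y, hy⟩ := (bijective_germUnit r F' (rfl : z ≫ r = z ≫ r)).2 (germ z _ (topPt z) τ)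
    exact ⟨y, hy.symm⟩
  have hzf : ∀ (Ω' : Type u) [Field Ω'] [IsSepClosed Ω'] (z : Spec (CommRingCat.of Ω') ⟶ Z),
      (z ≫ r) ≫ f = (z ≫ π) ≫ W.hom := fun Ω' _ _ z => by
    rw [Category.assoc, w, Category.assoc]
  obtain ⟨s, hs⟩ := exists_secPull_eq k hk _ sY fun Ω' _ _ μ θ₁ θ₂ h₁ h₂ c e => by
    obtain ⟨y₁, hy₁⟩ := hval Ω' (θ₁ ≫ a)
    obtain ⟨y₂, hy₂⟩ := hval Ω' (θ₂ ≫ a)
    let η' := (μ ≫ U.hom) ≫ f
    have kμ : (μ ≫ U.hom) ≫ f = η' := rfl
    have hza : ∀ θ : Spec (CommRingCat.of Ω') ⟶ pullback π ρ, θ ≫ k = μ →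
        (θ ≫ a) ≫ π = μ ≫ ρ := fun θ hθ => by
      rw [← hθ, Category.assoc, Category.assoc, pullback.condition]
    have hk' : ∀ θ : Spec (CommRingCat.of Ω') ⟶ pullback π ρ, θ ≫ k = μ →
        ((θ ≫ a) ≫ r) ≫ f = η' := fun θ hθ => by
      rw [hzf, hza θ hθ, Category.assoc, ← show U.hom ≫ f = ρ ≫ W.hom from pullback.condition.symm,
        ← Category.assoc]
    have k₁ := hk' θ₁ h₁
    have k₂ := hk' θ₂ h₂
    rw [hsY Ω' θ₁ _ rfl μ h₁ _ rfl η' y₁ hy₁ k₁ kμ] at e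
    rw [hsY Ω' θ₂ _ rfl μ h₂ _ rfl η' y₂ hy₂ k₂ kμ, ← (bijective_germUnit k _ h₁).1 e]
    refine congrArg (germUnit k _ h₂) (congrArg (germUnit U.hom F' rfl) ?_)
    rw [← hτ Ω' η' _ _ ((hza θ₁ h₁).trans (hza θ₂ h₂).symm) k₁ k₂ y₁ y₂ hy₁ hy₂,
      transport_trans f F' φ hφ]
  obtain ⟨t, ht⟩ := exists_sect_of_pull U F' s
  have hgerm : ∀ (Ω' : Type u) [Field Ω'] [IsSepClosed Ω'] (η' : Spec (CommRingCat.of Ω') ⟶ S)
      (ξ : Spec (CommRingCat.of Ω') ⟶ X) (h : ξ ≫ f = η')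
      (q : (Scheme.pointSmallEtale η').fiber.obj W) (z : Spec (CommRingCat.of Ω') ⟶ Z)
      (_ : z ≫ π = fiberHom q) (k₁ : (z ≫ r) ≫ f = η') (y : stalk (z ≫ r) F'),
      germ z _ (topPt z) τ = germUnit r F' rfl y →
      germ ξ F' (liftPt f h W q) t = transport f F' φ k₁ h y := by
    intro Ω' _ _ η' ξ h q z hz k₁ y hy
    let μ := fiberHom (liftPt f h W q)
    have hμρ : μ ≫ ρ = fiberHom q := pullback.lift_fst _ _ _
    let θ : Spec (CommRingCat.of Ω') ⟶ pullback π ρ := pullback.lift z μ (hz.trans hμρ.symm)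
    have hμ : θ ≫ k = μ := pullback.lift_snd _ _ _
    have hza : θ ≫ a = z := pullback.lift_fst _ _ _
    have hU : μ ≫ U.hom = ξ := pullback.lift_snd _ _ _
    have e := hsY Ω' θ z hza μ hμ ξ hU η' y hy k₁ h
    rw [← hs, germ_secPull k _ hμ, ← ht, germ_toTopSec U F' t (liftPt f h W q)] at e
    exact (bijective_germUnit U.hom F' hU).1 ((bijective_germUnit k _ hμ).1 e)
  let q : (Scheme.pointSmallEtale ((ζ₀ ≫ r) ≫ f)).fiber.obj W :=
    mkFiber _ W (ζ₀ ≫ π) (hzf Ω ζ₀).symm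
  refine ⟨q, t, ?_, ?_⟩
  · obtain ⟨O, -, hmem⟩ := exists_compat_locus f F' φ W t
    let b := pullback.fst f f ≫ f
    have hall : ∀ x, x ∈ O := by
      intro x
      obtain ⟨x', hx'⟩ := (hπ (pullback W.hom b) (pullback.fst W.hom b)).1 x
      let n := Push.algPoint (pullback π (pullback.fst W.hom b)) x'
      let m' := n ≫ pullback.snd π (pullback.fst W.hom b)
      let z := n ≫ pullback.fst π (pullback.fst W.hom b)
      let ζ := m' ≫ pullback.snd W.hom b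
      let η' := (m' ≫ pullback.fst W.hom b) ≫ W.hom
      have hb : ζ ≫ pullback.fst f f ≫ f = η' := by
        refine (Category.assoc _ _ _).trans ((m' ≫= pullback.condition.symm).trans ?_)
        exact (Category.assoc _ _ _).symm
      have h₁ : (ζ ≫ pullback.fst f f) ≫ f = η' := (Category.assoc _ _ _).trans hb
      have h₂ : (ζ ≫ pullback.snd f f) ≫ f = η' := by
        rw [Category.assoc, ← pullback.condition]; exact hb
      let p : (Scheme.pointSmallEtale η').fiber.obj W := mkFiber η' W (m' ≫ pullback.fst W.hom b) rfl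
      have hz : z ≫ π = fiberHom p := by
        change (n ≫ _) ≫ π = (n ≫ _) ≫ _
        rw [Category.assoc, Category.assoc, pullback.condition]
      have kz : (z ≫ r) ≫ f = η' := by
        rw [hzf, hz]
        rfl
      obtain ⟨y, hy⟩ := hval _ z
      have hc : transport f F' φ h₁ h₂ (germ _ F' (liftPt f h₁ W p) t) =
          germ _ F' (liftPt f h₂ W p) t := by
        rw [hgerm _ η' _ h₁ p z hz kz y hy, hgerm _ η' _ h₂ p z hz kz y hy,
          transport_trans f F' φ hφ]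
      have e : fiberPt (liftPt b hb W p) = x := by
        have e' : fiberHom (liftPt b hb W p) = m' :=
          pullback.hom_ext (pullback.lift_fst _ _ _) (pullback.lift_snd _ _ _)
        refine (congrArg (fun h : Spec (CommRingCat.of _) ⟶ pullback W.hom b => h.base default) e').trans ?_
        exact (congrArg (pullback.snd π (pullback.fst W.hom b)).base
          (Push.algPoint_apply _ x' default)).trans hx'
      exact e ▸ (hmem _ η' _ _ h₁ h₂ ζ rfl rfl hb p).2 hc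
    intro Ω' _ _ η' ξ₁ ξ₂ h₁ h₂ p
    exact (hmem Ω' η' ξ₁ ξ₂ h₁ h₂ _ (pullback.lift_fst ξ₁ ξ₂ (h₁.trans h₂.symm))
      (pullback.lift_snd _ _ _) (by rw [← Category.assoc, pullback.lift_fst, h₁]) p).1 (hall _)
  · rw [hgerm Ω _ _ rfl q ζ₀ rfl rfl g hg, transport_refl f F' φ hφ]

end Groth.Agent.Lib.EtDiscrete
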