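import Groth.Agent.Lib.EtSite.LimTensor
import Groth.Agent.Lib.NormalTensor.Main
import Groth.Agent.Lib.Purity.Local
import Groth.Agent.Lib.Excellent.NormalRing
import Mathlib.LinearAlgebra.TensorProduct.RightExactness
import Mathlib.RingTheory.Flat.Basic
import Mathlib.RingTheory.Localization.BaseChange

/-!
# Idempotents up to a scalar in ind-étale algebras over subrings of normal rings
-/

set_option autoImplicit false

universe u

open TensorProduct
open Groth.Agent.Lib.EtSite.LimTensor Groth.Agent.Lib.Henselian.Pointed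

noncomputable section

namespace Groth.Agent.Lib.EtDiscrete

/-- In a normal ring, `w ^ 2 = b t w` forces `b ∣ w`. -/
theorem dvd_of_normal {E : Type u} [CommRing E] (hE : EGA4.IsNormalRing E) {b t w : E}
    (h : w * w = b * t * w) : b ∣ w := by
  let J : Ideal E :=
    { carrier := {r | b ∣ r * w}
      add_mem' := fun {x y} hx hy => by
        show b ∣ (x + y) * w
        rw [add_mul]; exact dvd_add hx hy
      zero_mem' := by show b ∣ 0 * w; simp
      smul_mem' := fun c x hx => by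
        show b ∣ c * x * w
        rw [mul_assoc]; exact Dvd.dvd.mul_left hx c }
  suffices hJ : J = ⊤ by
    have : (1 : E) ∈ J := hJ ▸ trivial
    simpa [J] using (this : b ∣ 1 * w)
  by_contra hne
  obtain ⟨m, hm, hle⟩ := Ideal.exists_le_maximal J hne
  obtain ⟨_, -⟩ := hE m
  let L := Localization.AtPrime m
  have h0 : algebraMap E L (w * (w - b * t)) = 0 := by
    rw [mul_sub, h, mul_comm w (b * t), sub_self, map_zero]
  rw [map_mul] at h0
  rcases mul_eq_zero.1 h0 with h0 | h0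
  · obtain ⟨s, hs⟩ := (IsLocalization.map_eq_zero_iff m.primeCompl L _).1 h0
    exact s.2 (hle (show b ∣ (s : E) * w from hs ▸ dvd_zero b))
  · obtain ⟨s, hs⟩ := (IsLocalization.map_eq_zero_iff m.primeCompl L _).1 h0
    refine s.2 (hle (show b ∣ (s : E) * w from ⟨(s : E) * t, ?_⟩))
    rw [mul_sub, sub_eq_zero] at hs
    rw [hs]; ring

variable {O : Type u} [CommRing O] {Ω : Type u} [CommRing Ω] [Algebra O Ω]
  {C' : Type u} [CommRing C'] [Algebra O C']

/-- The stages of the base change of `Lim O Ω` to a normal algebra are normal. -/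
theorem isNormalRing_stage (hC' : EGA4.IsNormalRing C') (N : Stage O Ω) :
    EGA4.IsNormalRing (N.S ⊗[O] C') := by
  have h : EGA4.IsNormalRing (C' ⊗[O] N.S) := fun Q _ => by
    have : Q.LiesOver (Q.comap (algebraMap C' (C' ⊗[O] N.S))) := ⟨rfl⟩
    exact Groth.Agent.Lib.Purity.Local.normal_of_etale C' (C' ⊗[O] N.S)
      (Q.comap (algebraMap C' (C' ⊗[O] N.S))) Q (hC' _)
  exact NormalTensor.Basic.isNormalRing_congr (Algebra.TensorProduct.comm O C' N.S).toRingEquiv h

theorem isReduced_lim (hC' : EGA4.IsNormalRing C') : IsReduced (Lim O Ω ⊗[O] C') := by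
  classical
  refine ⟨fun x ⟨n, hn⟩ => ?_⟩
  obtain ⟨N, -, hN⟩ := (Stage.base (R := O) (Ω := Ω)).tensor_exists_range C' {x}
  obtain ⟨x', hx'⟩ := hN (Finset.mem_singleton_self x)
  obtain ⟨K, ψ, hK⟩ := N.tensor_exists_eq_zero₁ C' (x' ^ n) (by rw [map_pow, hx', hn])
  have := NormalTensor.Basic.isReduced_of_isNormalRing (isNormalRing_stage hC' K)
  rw [map_pow] at hK
  have h0 : tmap C' ψ.1 x' = 0 := IsReduced.eq_zero _ ⟨n, hK⟩
  rw [← hx', ← show K.toLim.comp ψ.1 = N.toLim from ψ.2, ← tmap_tmap, h0, map_zero]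

theorem dvd_lim (hC' : EGA4.IsNormalRing C') (b : C') {t w : Lim O Ω ⊗[O] C'}
    (h : w * w = (1 ⊗ₜ b) * t * w) : (1 : Lim O Ω) ⊗ₜ[O] b ∣ w := by
  classical
  obtain ⟨N, -, hN⟩ := (Stage.base (R := O) (Ω := Ω)).tensor_exists_range C' {w, t}
  obtain ⟨w', hw'⟩ := hN (Finset.mem_coe.2 (Finset.mem_insert_self w {t}))
  obtain ⟨t', ht'⟩ := hN (Finset.mem_coe.2 (Finset.mem_insert_of_mem (Finset.mem_singleton_self t)))
  have hb : ∀ (K : Stage O Ω), tmap C' K.toLim ((1 : K.S) ⊗ₜ[O] b) = 1 ⊗ₜ b := fun K => by simp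
  obtain ⟨K, ψ, hK⟩ := N.tensor_exists_eq_zero₁ C' (w' * w' - (1 ⊗ₜ b) * t' * w') (by
    rw [map_sub, map_mul, map_mul, map_mul, hw', ht', hb, h, sub_self])
  rw [map_sub, map_mul, map_mul, map_mul, sub_eq_zero] at hK
  obtain ⟨x, hx⟩ := dvd_of_normal (isNormalRing_stage hC' K) hK
  refine ⟨tmap C' K.toLim x, ?_⟩
  have hbψ : tmap C' ψ.1 ((1 : N.S) ⊗ₜ[O] b) = 1 ⊗ₜ b := by simp
  rw [← hw', ← show K.toLim.comp ψ.1 = N.toLim from ψ.2, ← tmap_tmap, hx, map_mul, hbψ, hb]

variable {C : Type u} [CommRing C] [Algebra O C]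

/-- The dichotomy: if `t (d ^ 2 - b d) = 0` then `t d = b x` with `x ^ 2 = t x`. -/
theorem exists_idem_lim (hC' : EGA4.IsNormalRing C') (σ : C →ₐ[O] C') (hσ : Function.Injective σ)
    (b : C) (hdiv : ∀ c : C, σ b ∣ σ c → b ∣ c) (hreg : ∀ c : C, b * c = 0 → c = 0) :
    IsReduced (Lim O Ω ⊗[O] C) ∧
    (∀ d : Lim O Ω ⊗[O] C, ((1 : Lim O Ω) ⊗ₜ[O] b) * d = 0 → d = 0) ∧
    ∀ t d : Lim O Ω ⊗[O] C, t * (d * d - (1 ⊗ₜ b) * d) = 0 →
      ∃ x, (1 ⊗ₜ b) * x = t * d ∧ x * x = t * x := by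
  let σL : Lim O Ω ⊗[O] C →ₐ[O] Lim O Ω ⊗[O] C' := Algebra.TensorProduct.map (AlgHom.id O _) σ
  have hσL : Function.Injective σL := by
    have := Module.Flat.lTensor_preserves_injective_linearMap (M := Lim O Ω) σ.toLinearMap hσ
    exact this
  have hred : IsReduced (Lim O Ω ⊗[O] C) := by
    have := isReduced_lim (Ω := Ω) (O := O) hC'
    exact isReduced_of_injective σL hσL
  let μ : C →ₗ[O] C := LinearMap.mulLeft O b
  have hμ : ∀ d : Lim O Ω ⊗[O] C, μ.lTensor (Lim O Ω) d = ((1 : Lim O Ω) ⊗ₜ[O] b) * d := fun d => by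
    induction d using TensorProduct.induction_on with
    | zero => simp
    | tmul l c => simp [μ]
    | add x y hx hy => rw [map_add, hx, hy, mul_add]
  have hregD : ∀ d : Lim O Ω ⊗[O] C, ((1 : Lim O Ω) ⊗ₜ[O] b) * d = 0 → d = 0 := fun d hd => by
    have hinj : Function.Injective (μ.lTensor (Lim O Ω)) :=
      Module.Flat.lTensor_preserves_injective_linearMap μ
        ((injective_iff_map_eq_zero μ).2 fun c hc => hreg c hc)
    exact hinj (by rw [hμ, hd, map_zero])
  refine ⟨hred, hregD, fun t d htd => ?_⟩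
  have hdvd : ∀ w : Lim O Ω ⊗[O] C, (1 : Lim O Ω) ⊗ₜ[O] σ b ∣ σL w →
      (1 : Lim O Ω) ⊗ₜ[O] b ∣ w := by
    intro w ⟨v, hv⟩
    let bC' : Submodule O C' := LinearMap.range (LinearMap.mulLeft O (σ b))
    let bC : Submodule O C := LinearMap.range μ
    have hle : bC ≤ bC'.comap σ.toLinearMap := by
      rintro _ ⟨c, rfl⟩
      exact ⟨σ c, by simp [μ]⟩
    let q : (C ⧸ bC) →ₗ[O] (C' ⧸ bC') := bC.mapQ bC' σ.toLinearMap hle
    have hq : Function.Injective q := by
      refine (injective_iff_map_eq_zero q).2 fun c => ?_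
      obtain ⟨c, rfl⟩ := Submodule.Quotient.mk_surjective bC c
      intro hc
      rw [Submodule.mapQ_apply, Submodule.Quotient.mk_eq_zero] at hc
      obtain ⟨v, hv⟩ := hc
      obtain ⟨c', hc'⟩ := hdiv c ⟨v, hv.symm⟩
      exact (Submodule.Quotient.mk_eq_zero _).2 ⟨c', hc'.symm⟩
    have hz : (q.lTensor (Lim O Ω)) (bC.mkQ.lTensor (Lim O Ω) w) = 0 := by
      rw [← LinearMap.comp_apply, ← LinearMap.lTensor_comp,
        show q ∘ₗ bC.mkQ = bC'.mkQ ∘ₗ σ.toLinearMap from bC.mapQ_mkQ bC' σ.toLinearMap,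
        LinearMap.lTensor_comp, LinearMap.comp_apply,
        show σ.toLinearMap.lTensor (Lim O Ω) w = σL w from rfl, hv]
      clear hv
      induction v using TensorProduct.induction_on with
      | zero => simp
      | tmul l c =>
        rw [Algebra.TensorProduct.tmul_mul_tmul, one_mul, LinearMap.lTensor_tmul]
        rw [show bC'.mkQ (σ b * c) = 0 from (Submodule.Quotient.mk_eq_zero bC').2 ⟨c, rfl⟩, TensorProduct.tmul_zero]
      | add x y hx hy => rw [mul_add, map_add, hx, hy, add_zero]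
    have hw0 : bC.mkQ.lTensor (Lim O Ω) w = 0 :=
      (Module.Flat.lTensor_preserves_injective_linearMap q hq) (hz.trans (map_zero _).symm)
    have hex : Function.Exact μ bC.mkQ := LinearMap.exact_iff.2 (Submodule.ker_mkQ bC)
    obtain ⟨u, hu⟩ := (lTensor_exact (Lim O Ω) hex (Submodule.mkQ_surjective bC) w).1 hw0
    exact ⟨u, by rw [← hu, hμ]⟩
  set bb : Lim O Ω ⊗[O] C := (1 : Lim O Ω) ⊗ₜ[O] b with hbb
  set w := t * d with hw
  have h1 : w * w = bb * t * w := by
    rw [← sub_eq_zero, hw]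
    calc _ = t * (t * (d * d - bb * d)) := by ring
      _ = 0 := by rw [htd, mul_zero]
  have h2 := dvd_lim hC' (σ b) (t := σL t) (w := σL w) (by
    rw [← map_mul, h1, map_mul, map_mul]
    congr 2)
  obtain ⟨x, hx⟩ := hdvd w h2
  refine ⟨x, hx.symm, sub_eq_zero.1 (hregD _ (hregD _ ?_))⟩
  calc bb * (bb * (x * x - t * x)) = (bb * x) * (bb * x) - bb * t * (bb * x) := by ring
    _ = 0 := by rw [← hx, h1, sub_self]

/-- A product of fields is normal. -/
theorem isNormalRing_pi {ι : Type u} (F : ι → Type u) [∀ i, Field (F i)] :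
    EGA4.IsNormalRing (∀ i, F i) := fun P _ => by
  classical
  let L := Localization.AtPrime P
  have hF : IsField L := by
    refine ⟨exists_pair_ne L, mul_comm, fun {a} ha => ?_⟩
    obtain ⟨⟨x, s⟩, rfl⟩ := IsLocalization.mk'_surjective P.primeCompl a
    by_cases hx : x ∈ P
    · exfalso
      let y : ∀ i, F i := fun i => (x i)⁻¹
      have h0 : x * (1 - x * y) = 0 := funext fun i => by
        simp only [Pi.mul_apply, Pi.sub_apply, Pi.one_apply, Pi.zero_apply, y]
        by_cases h : x i = 0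
        · simp [h]
        · rw [mul_inv_cancel₀ h, sub_self, mul_zero]
      have hnot : (1 - x * y) ∉ P := fun h => ‹P.IsPrime›.ne_top (P.eq_top_iff_one.2 (by
        simpa using P.add_mem h (P.mul_mem_right y hx)))
      refine ha ((IsLocalization.mk'_eq_zero_iff _ _).2 ⟨⟨_, hnot⟩, ?_⟩)
      rw [mul_comm]; exact h0
    · exact ⟨IsLocalization.mk' L (s : ∀ i, F i) ⟨x, hx⟩, by
        refine (IsLocalization.mk'_mul L _ _ _ _).symm.trans ?_
        rw [IsLocalization.mk'_eq_iff_eq_mul, one_mul]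
        refine congrArg (algebraMap _ L) ?_
        simp [mul_comm]⟩
  letI := hF.toField
  exact ⟨inferInstance, inferInstance⟩

end Groth.Agent.Lib.EtDiscrete
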