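import Groth.Agent.Lib.NormalTensor.Main
import Groth.Agent.Lib.Purity.Local
import Groth.Agent.Lib.GeomConn.SepClosed
import Groth.Agent.Lib.Henselian.Finite
import Mathlib.Algebra.CharP.Lemmas
import Mathlib.FieldTheory.PurelyInseparable.Basic
import Mathlib.FieldTheory.IsSepClosed
import Mathlib.RingTheory.Ideal.GoingUp
import Mathlib.RingTheory.Algebraic.Integral
import Mathlib.Algebra.Group.Pi.Units

/-!
# Connectedness of the fibres of étale algebras over `R ⊗ Ω` near a prime

For an étale algebra `E` over `R ⊗ Ω`, `Ω` algebraically closed, and a strictly henselian `R`-algebra `B`,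
two field points of `B ⊗ E` over the same point of `B` and specializing to one prime over the closed
point are tied together by a generic point of a geometrically irreducible scheme.
-/

set_option autoImplicit false

universe u

open TensorProduct IsLocalRing

noncomputable section

namespace Groth.Agent.Lib.EtDiscrete

section TLift

variable {R A B X : Type u} [CommRing R] [CommRing A] [Algebra R A] [CommRing B] [Algebra R B]
  [CommRing X]

/-- The ring map out of a tensor product given by two ring maps agreeing on the base. -/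
def tlift (f : A →+* X) (g : B →+* X) (h : f.comp (algebraMap R A) = g.comp (algebraMap R B)) :
    A ⊗[R] B →+* X :=
  letI : Algebra R X := (f.comp (algebraMap R A)).toAlgebra
  (Algebra.TensorProduct.productMap (A := A) (B := B) ({ f with commutes' := fun _ => rfl } : A →ₐ[R] X)
    ({ g with commutes' := fun r => (RingHom.congr_fun h r).symm } : B →ₐ[R] X)).toRingHom

theorem tlift_tmul (f : A →+* X) (g : B →+* X)
    (h : f.comp (algebraMap R A) = g.comp (algebraMap R B)) (a : A) (b : B) :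
    tlift f g h (a ⊗ₜ b) = f a * g b := rfl

end TLift

/-- A domain integral over a henselian local ring is local. -/
theorem isLocalRing_of_isIntegral (A : Type u) [CommRing A] [HenselianLocalRing A] (S : Type u)
    [CommRing S] [IsDomain S] [Algebra A S] [Algebra.IsIntegral A S] : IsLocalRing S := by
  refine IsLocalRing.of_isUnit_or_isUnit_one_sub_self fun x => ?_
  let S₀ := Algebra.adjoin A ({x} : Set S)
  have : Module.Finite A S₀ :=
    Module.Finite.iff_fg.2 (Algebra.IsIntegral.isIntegral (R := A) x).fg_adjoin_singleton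
  obtain ⟨ι, _, C, _, hC, ⟨e⟩⟩ :=
    Groth.Agent.Lib.Henselian.Finite.exists_ringEquiv_pi_isLocalRing A S₀
  classical
  have : IsDomain (∀ i, C i) := e.toMulEquiv.isDomain_iff.1 inferInstance
  have hι : Subsingleton ι := ⟨fun i j => by
    by_contra hij
    have := hC i
    have := hC j
    have h0 : (Pi.single i (1 : C i)) * (Pi.single j (1 : C j)) = (0 : ∀ i, C i) := by
      ext l
      rcases eq_or_ne l i with rfl | hl
      · simp [Pi.single_eq_of_ne hij]
      · simp [Pi.single_eq_of_ne hl]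
    rcases mul_eq_zero.1 h0 with h | h
    · simpa using congrFun h i
    · simpa using congrFun h j⟩
  let y : S₀ := ⟨x, Algebra.subset_adjoin rfl⟩
  rcases isEmpty_or_nonempty ι with hn | ⟨⟨i⟩⟩
  · exact absurd (inferInstance : Subsingleton (∀ i, C i)) (not_subsingleton _)
  have := hC i
  have hunit : ∀ z : S₀, IsUnit (e z i) → IsUnit (z : S) := fun z hz => by
    have : IsUnit (e z) := Pi.isUnit_iff.2 fun j => by rw [Subsingleton.elim j i]; exact hz
    exact ((MulEquiv.isUnit_map e.toMulEquiv).1 this).map S₀.val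
  rcases IsLocalRing.isUnit_or_isUnit_one_sub_self (e y i) with h | h
  · exact Or.inl (hunit y h)
  · exact Or.inr (by simpa [y] using hunit (1 - y) (by simpa using h))

set_option maxHeartbeats 800000 in
/-- Two points of `B ⊗ E` over one point of `B`, both specializing to the prime `z` over the closed
point, are linked by a generic point. -/
theorem exists_link {Λ k R Ω : Type u} [CommRing Λ] [Field k] [Algebra Λ k] [Field Ω] [IsAlgClosed Ω]
  [Algebra Λ Ω] [Algebra k Ω] [IsScalarTower Λ k Ω]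
  [CommRing R] [Algebra Λ R]
  {E : Type u} [CommRing E] [Algebra R E] [Algebra (R ⊗[Λ] Ω) E] [IsScalarTower R (R ⊗[Λ] Ω) E]
  [Algebra.Etale (R ⊗[Λ] Ω) E]
  {B : Type u} [CommRing B] [Algebra R B] [HenselianLocalRing B] [IsSepClosed (ResidueField B)]
    (hsurj : Function.Surjective (algebraMap Λ k))
    (z : Ideal (B ⊗[R] E)) [z.IsPrime]
    (hz : z.comap (Algebra.TensorProduct.includeLeftRingHom : B →+* B ⊗[R] E) = maximalIdeal B)
    {L : Type u} [Field L] [IsAlgClosed L] (u u' : B ⊗[R] E →+* L)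
    (hb : ∀ b : B, u (b ⊗ₜ 1) = u' (b ⊗ₜ 1))
    (hu : RingHom.ker u ≤ z) (hu' : RingHom.ker u' ≤ z) :
    ∃ (T : Type u) (_ : CommRing T) (_ : IsDomain T) (ι : L →+* T) (γ : E →+* T)
      (s s' : T →+* L),
      s.comp ι = RingHom.id L ∧ s'.comp ι = RingHom.id L ∧
      (∀ r : R, γ (algebraMap R E r) = ι (u (1 ⊗ₜ algebraMap R E r))) ∧
      (∀ e : E, s (γ e) = u (1 ⊗ₜ e)) ∧ (∀ e : E, s' (γ e) = u' (1 ⊗ₜ e)) := by
  classical
  -- the integral closure of the base in `L`
  let β : B →+* L := u.comp Algebra.TensorProduct.includeLeftRingHom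
  letI : Algebra B L := β.toAlgebra
  letI : Algebra R L := (β.comp (algebraMap R B)).toAlgebra
  haveI : IsScalarTower R B L := IsScalarTower.of_algebraMap_eq fun _ => rfl
  let B' := integralClosure B L
  haveI : IsLocalRing B' := isLocalRing_of_isIntegral B B'
  have hswap : ∀ r : R, (1 : B) ⊗ₜ[R] algebraMap R E r = algebraMap R B r ⊗ₜ (1 : E) := fun r => by
    rw [Algebra.algebraMap_eq_smul_one, Algebra.algebraMap_eq_smul_one, TensorProduct.smul_tmul]
  have huR : ∀ r : R, u (1 ⊗ₜ algebraMap R E r) = β (algebraMap R B r) := fun r => by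
    rw [hswap]; rfl
  have hu'R : ∀ r : R, u' (1 ⊗ₜ algebraMap R E r) = β (algebraMap R B r) := fun r => by
    rw [hswap, ← hb]; rfl
  let uE : E →+* L := u.comp (Algebra.TensorProduct.includeRight : E →ₐ[R] B ⊗[R] E).toRingHom
  let u'E : E →+* L := u'.comp (Algebra.TensorProduct.includeRight : E →ₐ[R] B ⊗[R] E).toRingHom
  let bv : B' →+* L := (integralClosure B L).val.toRingHom
  let G := B' ⊗[R] E
  let uG : G →+* L := tlift bv uE (RingHom.ext fun r => (huR r).symm)
  let u'G : G →+* L := tlift bv u'E (RingHom.ext fun r => (hu'R r).symm)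
  let ιG : B ⊗[R] E →+* G :=
    (Algebra.TensorProduct.map (IsScalarTower.toAlgHom R B B') (AlgHom.id R E)).toRingHom
  have huι : uG.comp ιG = u := by
    refine RingHom.ext fun x => ?_
    induction x using TensorProduct.induction_on with
    | zero => simp
    | tmul b e =>
      change β b * uE e = u (b ⊗ₜ e)
      simp only [β, uE, RingHom.comp_apply]
      rw [← map_mul]
      congr 1
      simp
    | add x y hx hy => rw [map_add, map_add, hx, hy]
  have hu'ι : u'G.comp ιG = u' := by
    refine RingHom.ext fun x => ?_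
    induction x using TensorProduct.induction_on with
    | zero => simp
    | tmul b e =>
      change β b * u'E e = u' (b ⊗ₜ e)
      simp only [β, u'E, RingHom.comp_apply]
      change u (b ⊗ₜ 1) * u' _ = _
      rw [hb, ← map_mul]
      congr 1
      simp
    | add x y hx hy => rw [map_add, map_add, hx, hy]
  letI : Algebra (B ⊗[R] E) G := ιG.toAlgebra
  haveI : Algebra.IsIntegral (B ⊗[R] E) G := by
    refine ⟨fun x => ?_⟩
    induction x using TensorProduct.induction_on with
    | zero => exact isIntegral_zero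
    | tmul b e =>
      obtain ⟨p, hp, hpb⟩ := Algebra.IsIntegral.isIntegral (R := B) b
      have h1 : IsIntegral (B ⊗[R] E) (b ⊗ₜ[R] (1 : E) : G) := by
        refine ⟨p.map Algebra.TensorProduct.includeLeftRingHom, hp.map _, ?_⟩
        have hc : ιG.comp Algebra.TensorProduct.includeLeftRingHom =
            (Algebra.TensorProduct.includeLeftRingHom : B' →+* G).comp (algebraMap B B') :=
          RingHom.ext fun _ => rfl
        rw [Polynomial.eval₂_map]
        change Polynomial.eval₂ (ιG.comp _) _ p = 0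
        rw [hc]
        change Polynomial.eval₂ _ ((Algebra.TensorProduct.includeLeftRingHom : B' →+* G) b) p = 0
        rw [← Polynomial.hom_eval₂, hpb, map_zero]
      have h2 : IsIntegral (B ⊗[R] E) ((1 : B') ⊗ₜ[R] e : G) := by
        have he : algebraMap (B ⊗[R] E) G (1 ⊗ₜ e) = (1 : B') ⊗ₜ e := by
          simp [RingHom.algebraMap_toAlgebra, ιG]
        exact he ▸ isIntegral_algebraMap
      have := h1.mul h2
      rwa [Algebra.TensorProduct.tmul_mul_tmul, mul_one, one_mul] at this
    | add x y hx hy => exact hx.add hy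
  -- uniqueness of the prime over `z`
  have key : ∀ Q₁ Q₂ : Ideal G, Q₁.IsPrime → Q₂.IsPrime → Q₁.comap ιG = z → Q₂.comap ιG = z →
      Q₁ ≤ Q₂ := by
    intro Q₁ Q₂ hQ₁ hQ₂ h₁ h₂
    have hmax : ∀ Q : Ideal G, Q.IsPrime → Q.comap ιG = z → ∀ b ∈ maximalIdeal B',
        (b ⊗ₜ[R] (1 : E)) ∈ Q := by
      intro Q hQ h b hb'
      let m' := Q.comap (Algebra.TensorProduct.includeLeftRingHom : B' →+* G)
      have hm : m'.comap (algebraMap B B') = maximalIdeal B := by
        rw [← hz, ← h]
        exact Ideal.ext fun _ => Iff.rfl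
      haveI : m'.IsPrime := Ideal.comap_isPrime _ Q
      have : m'.IsMaximal :=
        Ideal.isMaximal_of_isIntegral_of_isMaximal_comap m' (hm ▸ maximalIdeal.isMaximal B)
      rw [← eq_maximalIdeal this] at hb'
      exact hb'
    haveI : IsLocalHom (algebraMap B B') := ⟨fun x hx => by
      by_contra hx'
      have : (maximalIdeal B').comap (algebraMap B B') = maximalIdeal B :=
        eq_maximalIdeal (Ideal.isMaximal_comap_of_isIntegral_of_isMaximal _)
      have hmem : x ∈ maximalIdeal B := (mem_maximalIdeal _).2 hx'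
      rw [← this] at hmem
      exact (mem_maximalIdeal _).1 (Ideal.mem_comap.1 hmem) hx⟩
    obtain ⟨q, hq⟩ := ExpChar.exists (ResidueField B)
    haveI : Algebra.IsIntegral (ResidueField B) (ResidueField B') := ⟨fun x => by
      obtain ⟨b, rfl⟩ := IsLocalRing.residue_surjective x
      exact ((Algebra.IsIntegral.isIntegral (R := B) b).map
        (IsScalarTower.toAlgHom B B' (ResidueField B'))).tower_top⟩
    haveI : Algebra.IsAlgebraic (ResidueField B) (ResidueField B') := inferInstance
    haveI : IsPurelyInseparable (ResidueField B) (ResidueField B') := inferInstance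
    have hJ : ∀ x : G, ∃ (n : ℕ) (y : B ⊗[R] E), x ^ q ^ n - ιG y ∈ Q₁ ⊓ Q₂ := by
      intro x
      induction x using TensorProduct.induction_on with
      | zero => exact ⟨0, 0, by simp⟩
      | tmul b e =>
        obtain ⟨n, c, hc⟩ := IsPurelyInseparable.pow_mem (ResidueField B) q (residue B' b)
        obtain ⟨c, rfl⟩ := IsLocalRing.residue_surjective c
        refine ⟨n, c ⊗ₜ (e ^ q ^ n), ?_⟩
        have hd : b ^ q ^ n - algebraMap B B' c ∈ maximalIdeal B' := by
          rw [← residue_eq_zero_iff, map_sub, map_pow, ← hc, sub_eq_zero]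
          rfl
        have he : (b ⊗ₜ[R] e) ^ q ^ n - ιG (c ⊗ₜ (e ^ q ^ n)) =
            ((b ^ q ^ n - algebraMap B B' c) ⊗ₜ[R] (1 : E)) * ((1 : B') ⊗ₜ[R] (e ^ q ^ n)) := by
          rw [Algebra.TensorProduct.tmul_pow, Algebra.TensorProduct.tmul_mul_tmul, mul_one, one_mul,
            TensorProduct.sub_tmul]
          rfl
        rw [he]
        exact Ideal.mul_mem_right _ _ ⟨hmax Q₁ hQ₁ h₁ _ hd, hmax Q₂ hQ₂ h₂ _ hd⟩
      | add x y hx hy =>
        obtain ⟨n₁, a, ha⟩ := hx
        obtain ⟨n₂, b, hb'⟩ := hy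
        -- raise to a common exponent
        have up : ∀ (n m : ℕ) (x : G) (a : B ⊗[R] E), x ^ q ^ n - ιG a ∈ Q₁ ⊓ Q₂ →
            x ^ q ^ (n + m) - ιG (a ^ q ^ m) ∈ Q₁ ⊓ Q₂ := by
          intro n m x a h
          rw [pow_add, pow_mul, map_pow]
          exact Ideal.mem_of_dvd _ (sub_dvd_pow_sub_pow _ _ _) h
        have ha' := up n₁ n₂ x a ha
        have hb'' := up n₂ n₁ y b hb'
        rw [add_comm n₂ n₁] at hb''
        refine ⟨n₁ + n₂, a ^ q ^ n₂ + b ^ q ^ n₁, ?_⟩
        have hadd : (x + y) ^ q ^ (n₁ + n₂) - (x ^ q ^ (n₁ + n₂) + y ^ q ^ (n₁ + n₂)) ∈ Q₁ ⊓ Q₂ := by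
          rcases hq with _ | ⟨hp⟩
          · simp
          · obtain ⟨r, hr⟩ := exists_add_pow_prime_pow_eq hp x y (n₁ + n₂)
            rw [hr, add_sub_cancel_left]
            refine Ideal.mul_mem_right _ _ (Ideal.mul_mem_right _ _ (Ideal.mul_mem_right _ _ ?_))
            have hqz : ((q : B) ⊗ₜ[R] (1 : E)) ∈ z := by
              have : (q : B) ∈ maximalIdeal B := by
                rw [← residue_eq_zero_iff, map_natCast]
                exact CharP.cast_eq_zero _ q
              rw [← hz] at this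
              exact this
            have hqG : ιG ((q : B) ⊗ₜ[R] (1 : E)) = (q : G) := by
              rw [← Algebra.TensorProduct.natCast_def, map_natCast]
            exact ⟨hqG ▸ (h₁ ▸ hqz : _ ∈ Q₁.comap ιG), hqG ▸ (h₂ ▸ hqz : _ ∈ Q₂.comap ιG)⟩
        rw [map_add]
        convert Ideal.add_mem _ hadd (Ideal.add_mem _ ha' hb'') using 1
        ring
    intro x hx
    obtain ⟨n, y, hy⟩ := hJ x
    have hpos : 0 < q ^ n := pow_pos (expChar_pos (ResidueField B) q) n
    have hxn : x ^ q ^ n ∈ Q₁ := Ideal.pow_mem_of_mem _ hx _ hpos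
    have hyz : y ∈ z := h₁ ▸ (Ideal.mem_comap.2 (by simpa using Ideal.sub_mem _ hxn hy.1))
    have hy2 : ιG y ∈ Q₂ := Ideal.mem_comap.1 (h₂.symm ▸ hyz)
    exact hQ₂.mem_of_pow_mem _ (by simpa using Ideal.add_mem _ hy.2 hy2)
  obtain ⟨Q, hQu, hQp, hQz⟩ := Ideal.exists_ideal_over_prime_of_isIntegral (S := G) z
    (RingHom.ker uG) (by rw [RingHom.comap_ker]; exact (congrArg RingHom.ker huι).le.trans hu)
  obtain ⟨Q', hQu', hQp', hQz'⟩ := Ideal.exists_ideal_over_prime_of_isIntegral (S := G) z
    (RingHom.ker u'G) (by rw [RingHom.comap_ker]; exact (congrArg RingHom.ker hu'ι).le.trans hu')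
  have hQu'' : RingHom.ker u'G ≤ Q := hQu'.trans (key Q' Q hQp' hQp hQz' hQz)
  -- the constants
  let ν : Ω →+* L := uE.comp ((algebraMap (R ⊗[Λ] Ω) E).comp
    (Algebra.TensorProduct.includeRight : Ω →ₐ[Λ] R ⊗[Λ] Ω).toRingHom)
  let ν' : Ω →+* L := u'E.comp ((algebraMap (R ⊗[Λ] Ω) E).comp
    (Algebra.TensorProduct.includeRight : Ω →ₐ[Λ] R ⊗[Λ] Ω).toRingHom)
  let cE : Ω →+* E := (algebraMap (R ⊗[Λ] Ω) E).comp
    (Algebra.TensorProduct.includeRight : Ω →ₐ[Λ] R ⊗[Λ] Ω).toRingHom
  have hΛ : ∀ l : Λ, cE (algebraMap Λ Ω l) = algebraMap R E (algebraMap Λ R l) := by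
    intro l
    change algebraMap (R ⊗[Λ] Ω) E ((1 : R) ⊗ₜ algebraMap Λ Ω l) = _
    rw [IsScalarTower.algebraMap_apply R (R ⊗[Λ] Ω) E]
    congr 1
    change _ = algebraMap Λ R l ⊗ₜ (1 : Ω)
    rw [Algebra.algebraMap_eq_smul_one, Algebra.algebraMap_eq_smul_one, TensorProduct.smul_tmul]
  have hνint : ∀ a : Ω, IsIntegral k a → IsIntegral B (ν a) := by
    rintro a ⟨p, hp, hpa⟩
    obtain ⟨p₀, hp₀, -, hp₀m⟩ := Polynomial.lifts_and_natDegree_eq_and_monic
      ((Polynomial.mem_lifts _).2 (Polynomial.map_surjective _ hsurj p)) hp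
    refine ⟨p₀.map ((algebraMap R B).comp (algebraMap Λ R)), hp₀m.map _, ?_⟩
    have e : β.comp ((algebraMap R B).comp (algebraMap Λ R)) = ν.comp (algebraMap Λ Ω) :=
      RingHom.ext fun l => by
        change β _ = u (1 ⊗ₜ cE (algebraMap Λ Ω l))
        rw [hΛ, huR]
        rfl
    rw [Polynomial.eval₂_map]
    change Polynomial.eval₂ (β.comp _) (ν a) p₀ = 0
    rw [e, ← Polynomial.hom_eval₂, IsScalarTower.algebraMap_eq Λ k Ω, ← Polynomial.eval₂_map, hp₀,
      hpa, map_zero]
  have hν : ∀ a : Ω, IsIntegral k a → ν' a = ν a := by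
    intro a ha
    obtain ⟨p, hp, hpa⟩ := ha
    have e : ν'.comp (algebraMap k Ω) = ν.comp (algebraMap k Ω) := RingHom.ext fun c => by
      obtain ⟨l, rfl⟩ := hsurj c
      simp only [RingHom.comp_apply, ← IsScalarTower.algebraMap_apply Λ k Ω]
      change u' (1 ⊗ₜ cE (algebraMap Λ Ω l)) = u (1 ⊗ₜ cE (algebraMap Λ Ω l))
      rw [hΛ, huR, hu'R]
    have hs : (p.map (algebraMap k Ω)).Splits := IsAlgClosed.splits _
    obtain ⟨a', ha', hroot⟩ : ∃ a' : Ω, IsIntegral k a' ∧ ν a' = ν' a := by
      have h0 : Polynomial.eval₂ (ν.comp (algebraMap k Ω)) (ν' a) p = 0 := by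
        rw [← e, ← Polynomial.hom_eval₂, hpa, map_zero]
      rw [← Polynomial.eval₂_map, hs.eq_prod_roots_of_monic (hp.map _),
        Polynomial.eval₂_multiset_prod] at h0
      obtain ⟨w, hw, hw0⟩ := Multiset.mem_map.1 (Multiset.prod_eq_zero_iff.1 h0)
      obtain ⟨a', ha', rfl⟩ := Multiset.mem_map.1 hw
      refine ⟨a', ⟨p, hp, ?_⟩, ?_⟩
      · have := (Polynomial.mem_roots'.1 ha').2
        rwa [Polynomial.IsRoot, Polynomial.eval_map] at this
      · rw [Polynomial.eval₂_sub, Polynomial.eval₂_X, Polynomial.eval₂_C, sub_eq_zero] at hw0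
        exact hw0.symm
    let b : B' := ⟨ν a', hνint a' ha'⟩
    have h1 : ((1 : B') ⊗ₜ[R] cE a' - b ⊗ₜ[R] (1 : E)) ∈ Q := hQu (by
      rw [RingHom.mem_ker, map_sub, tlift_tmul, tlift_tmul, map_one, map_one, one_mul, mul_one]
      exact sub_self (ν a'))
    have h2 : ((1 : B') ⊗ₜ[R] cE a - b ⊗ₜ[R] (1 : E)) ∈ Q := hQu'' (by
      rw [RingHom.mem_ker, map_sub, tlift_tmul, tlift_tmul, map_one, map_one, one_mul, mul_one]
      exact sub_eq_zero.2 hroot.symm)
    have h3 : ((1 : B') ⊗ₜ[R] cE (a - a')) ∈ Q := by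
      have := Ideal.sub_mem _ h2 h1
      rw [map_sub, TensorProduct.tmul_sub]
      convert this using 1
      ring
    have : a = a' := by
      by_contra hne
      have hunit : IsUnit ((1 : B') ⊗ₜ[R] cE (a - a')) :=
        ((IsUnit.mk0 _ (sub_ne_zero.2 hne)).map cE).map
          (Algebra.TensorProduct.includeRight : E →ₐ[R] G)
      exact hQp.ne_top (Ideal.eq_top_of_isUnit_mem _ h3 hunit)
    rw [← hroot, this]
  -- the algebraically closed field of constants
  let K₀ := algebraicClosure k Ω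
  haveI : IsAlgClosed K₀ := (algebraicClosure.isAlgClosure k Ω).isAlgClosed
  let νK : K₀ →+* B' := RingHom.codRestrict (ν.comp (algebraMap K₀ Ω)) B'
    fun a => hνint _ (mem_algebraicClosure_iff.1 a.2).isIntegral
  letI : Algebra K₀ B' := νK.toAlgebra
  let C' := Ω ⊗[K₀] B'
  have hνK : ∀ l : Λ, (νK (algebraMap k K₀ (algebraMap Λ k l)) : L) =
      β (algebraMap R B (algebraMap Λ R l)) := by
    intro l
    change ν (algebraMap k Ω (algebraMap Λ k l)) = _
    rw [← IsScalarTower.algebraMap_apply]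
    change u (1 ⊗ₜ cE (algebraMap Λ Ω l)) = _
    rw [hΛ, huR]
  let c : R ⊗[Λ] Ω →+* C' := tlift
    ((Algebra.TensorProduct.includeRight : B' →ₐ[K₀] C').toRingHom.comp
      ((algebraMap B B').comp (algebraMap R B)))
    (Algebra.TensorProduct.includeLeftRingHom : Ω →+* C')
    (RingHom.ext fun l => by
      change (1 : Ω) ⊗ₜ[K₀] algebraMap B B' (algebraMap R B (algebraMap Λ R l)) =
        algebraMap Λ Ω l ⊗ₜ[K₀] (1 : B')
      have h1 : algebraMap B B' (algebraMap R B (algebraMap Λ R l)) =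
          algebraMap k K₀ (algebraMap Λ k l) • (1 : B') := by
        rw [← Algebra.algebraMap_eq_smul_one]
        exact Subtype.ext (hνK l).symm
      have h2 : algebraMap Λ Ω l = algebraMap k K₀ (algebraMap Λ k l) • (1 : Ω) := by
        rw [← Algebra.algebraMap_eq_smul_one, ← IsScalarTower.algebraMap_apply k K₀ Ω,
          ← IsScalarTower.algebraMap_apply Λ k Ω]
      rw [h1, h2, TensorProduct.smul_tmul])
  letI : Algebra (R ⊗[Λ] Ω) C' := c.toAlgebra
  letI instC : CommRing C' := (Algebra.TensorProduct.instCommRing : CommRing (Ω ⊗[K₀] B'))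
  let E' := C' ⊗[R ⊗[Λ] Ω] E
  letI instE : CommRing E' := (Algebra.TensorProduct.instCommRing : CommRing (C' ⊗[R ⊗[Λ] Ω] E))
  haveI hE' : Algebra.Etale C' E' := inferInstance
  haveI : IsIntegrallyClosed B' := IsIntegrallyClosed.of_isIntegrallyClosedIn B' L
  have hC' : EGA4.IsNormalRing C' := NormalTensor.Field.isNormalRing_tensor_of_perfectField K₀
    NormalTensor.Main.isNormalRing_of_domain
  -- maps out of `E'`
  have hmk : ∀ {X : Type u} [CommRing X] (fG : G →+* X)
      (_ : ∀ a : Ω, IsIntegral k a → ∀ hb' : IsIntegral B (ν a),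
        fG (1 ⊗ₜ cE a) = fG ((⟨ν a, hb'⟩ : B') ⊗ₜ 1)),
      ∃ θ : E' →+* X,
        ∀ (ω : Ω) (b : B') (e : E), θ ((ω ⊗ₜ[K₀] b) ⊗ₜ e) = fG (b ⊗ₜ (cE ω * e)) := by
    intro X _ fG hf
    let f1 : Ω →+* X := fG.comp ((Algebra.TensorProduct.includeRight : E →ₐ[R] G).toRingHom.comp cE)
    let f2 : B' →+* X := fG.comp Algebra.TensorProduct.includeLeftRingHom
    let fC : C' →+* X := tlift f1 f2 (RingHom.ext fun a => hf _
      (mem_algebraicClosure_iff.1 a.2).isIntegral (νK a).2)
    let g : E →+* X := fG.comp (Algebra.TensorProduct.includeRight : E →ₐ[R] G).toRingHom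
    have hcompat : fC.comp (algebraMap (R ⊗[Λ] Ω) C') = g.comp (algebraMap (R ⊗[Λ] Ω) E) := by
      refine RingHom.ext fun x => ?_
      induction x using TensorProduct.induction_on with
      | zero => simp
      | tmul r ω =>
        change fC (c (r ⊗ₜ ω)) = fG ((1 : B') ⊗ₜ algebraMap (R ⊗[Λ] Ω) E (r ⊗ₜ ω))
        have h1 : c (r ⊗ₜ ω) = ω ⊗ₜ[K₀] (algebraMap B B' (algebraMap R B r)) := by
          change ((1 : Ω) ⊗ₜ[K₀] _) * (ω ⊗ₜ[K₀] (1 : B')) = _
          simp
        have h2 : algebraMap (R ⊗[Λ] Ω) E (r ⊗ₜ ω) = algebraMap R E r * cE ω := by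
          rw [IsScalarTower.algebraMap_apply R (R ⊗[Λ] Ω) E]
          change _ = algebraMap (R ⊗[Λ] Ω) E (r ⊗ₜ 1) * algebraMap (R ⊗[Λ] Ω) E (1 ⊗ₜ ω)
          rw [← map_mul, Algebra.TensorProduct.tmul_mul_tmul, mul_one, one_mul]
        rw [h1, h2]
        change fG ((1 : B') ⊗ₜ cE ω) * fG (algebraMap R B' r ⊗ₜ 1) = _
        rw [← map_mul, Algebra.TensorProduct.tmul_mul_tmul, one_mul, mul_one,
          Algebra.algebraMap_eq_smul_one, TensorProduct.smul_tmul, ← Algebra.smul_def]
      | add x y hx hy => rw [map_add, map_add, hx, hy]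
    refine ⟨tlift fC g hcompat, fun ω b e => ?_⟩
    rw [tlift_tmul]
    change fG ((1 : B') ⊗ₜ cE ω) * fG (b ⊗ₜ 1) * fG (1 ⊗ₜ e) = _
    rw [← map_mul, ← map_mul, Algebra.TensorProduct.tmul_mul_tmul,
      Algebra.TensorProduct.tmul_mul_tmul, one_mul, mul_one, mul_one]
  obtain ⟨w, hw⟩ := hmk uG fun a _ _ => by
    rw [tlift_tmul, tlift_tmul, map_one, map_one, one_mul, mul_one]
    rfl
  obtain ⟨w', hw'⟩ := hmk u'G fun a ha _ => by
    rw [tlift_tmul, tlift_tmul, map_one, map_one, one_mul, mul_one]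
    exact hν a ha
  obtain ⟨θ, hθ⟩ := hmk (Ideal.Quotient.mk Q) fun a _ hb' => by
    refine Ideal.Quotient.eq.2 (hQu ?_)
    rw [RingHom.mem_ker, map_sub, tlift_tmul, tlift_tmul, map_one, map_one, one_mul, mul_one]
    exact sub_self (ν a)
  have hsur : ∀ x : E', ∃ y : G, w x = uG y ∧ w' x = u'G y ∧ θ x = Ideal.Quotient.mk Q y := by
    intro x
    induction x using TensorProduct.induction_on with
    | zero => exact ⟨0, by simp, by simp, by simp⟩
    | tmul c' e =>
      induction c' using TensorProduct.induction_on with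
      | zero => exact ⟨0, by simp, by simp, by simp⟩
      | tmul ω b => exact ⟨b ⊗ₜ (cE ω * e), hw ω b e, hw' ω b e, hθ ω b e⟩
      | add a b ha hb' =>
        obtain ⟨y₁, h₁, h₂, h₃⟩ := ha
        obtain ⟨y₂, k₁, k₂, k₃⟩ := hb'
        exact ⟨y₁ + y₂, by simp [TensorProduct.add_tmul, h₁, k₁], by simp [TensorProduct.add_tmul, h₂, k₂],
          by simp [TensorProduct.add_tmul, h₃, k₃]⟩
    | add a b ha hb' =>
      obtain ⟨y₁, h₁, h₂, h₃⟩ := ha
      obtain ⟨y₂, k₁, k₂, k₃⟩ := hb'
      exact ⟨y₁ + y₂, by simp [h₁, k₁], by simp [h₂, k₂], by simp [h₃, k₃]⟩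
  let P := RingHom.ker θ
  haveI : P.IsPrime := RingHom.ker_isPrime θ
  have hPw : RingHom.ker w ≤ P := fun x hx => by
    obtain ⟨y, h₁, -, h₃⟩ := hsur x
    rw [RingHom.mem_ker, h₃, Ideal.Quotient.eq_zero_iff_mem]
    exact hQu (h₁.symm.trans hx)
  have hPw' : RingHom.ker w' ≤ P := fun x hx => by
    obtain ⟨y, -, h₂, h₃⟩ := hsur x
    rw [RingHom.mem_ker, h₃, Ideal.Quotient.eq_zero_iff_mem]
    exact hQu'' (h₂.symm.trans hx)
  -- the local ring is a domain
  haveI : P.LiesOver (P.comap (algebraMap C' E')) := ⟨rfl⟩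
  obtain ⟨hD, -⟩ := Groth.Agent.Lib.Purity.Local.normal_of_etale C' E' (P.comap (algebraMap C' E')) P
    (hC' _)
  let D := Localization.AtPrime P
  have hunit : ∀ (f : E' →+* L), RingHom.ker f ≤ P → ∀ x : P.primeCompl, IsUnit (f x) :=
    fun f hf x => IsUnit.mk0 _ fun h => x.2 (hf h)
  let wD : D →+* L := IsLocalization.lift (hunit w hPw)
  let w'D : D →+* L := IsLocalization.lift (hunit w' hPw')
  let ιB : B' →+* D := (algebraMap E' D).comp
    ((Algebra.TensorProduct.includeLeftRingHom : C' →+* E').comp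
      (Algebra.TensorProduct.includeRight : B' →ₐ[K₀] C').toRingHom)
  have hwB : ∀ b : B', wD (ιB b) = b ∧ w'D (ιB b) = b := by
    intro b
    constructor
    · refine (IsLocalization.lift_eq _ _).trans ((hw 1 b 1).trans ?_)
      rw [tlift_tmul, map_one, one_mul, map_one, mul_one]
      rfl
    · refine (IsLocalization.lift_eq _ _).trans ((hw' 1 b 1).trans ?_)
      rw [tlift_tmul, map_one, one_mul, map_one, mul_one]
      rfl
  have hinj : Function.Injective ιB := fun a b h =>
    Subtype.ext (((hwB a).1.symm.trans (congrArg wD h)).trans (hwB b).1)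
  -- the fraction field of `B'`
  let F := FractionRing B'
  have hbv : Function.Injective bv := Subtype.val_injective
  let jF : F →+* L := IsFractionRing.lift hbv
  haveI hF : IsAlgClosed F := by
    refine IsAlgClosed.of_exists_root _ fun p hp hirr => ?_
    obtain ⟨x, hx⟩ := IsAlgClosed.exists_root (p.map jF)
      (by rw [Polynomial.degree_map]; exact (Polynomial.degree_pos_of_irreducible hirr).ne')
    letI : Algebra F L := jF.toAlgebra
    haveI : IsScalarTower B' F L :=
      IsScalarTower.of_algebraMap_eq fun b => (IsFractionRing.lift_algebraMap hbv b).symm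
    have hFx : IsAlgebraic F x := by
      refine ⟨p, hp.ne_zero, ?_⟩
      rw [Polynomial.aeval_def, ← Polynomial.eval_map]
      exact hx
    have hBx : IsAlgebraic B' x := (IsFractionRing.isAlgebraic_iff B' F L).2 hFx
    obtain ⟨y, hy, hyx⟩ := hBx.exists_integral_multiple
    have hyx' : IsIntegral B (y • x) := isIntegral_trans _ hyx
    have hx' : x = jF (algebraMap B' F ⟨_, hyx'⟩ / algebraMap B' F y) := by
      rw [map_div₀, IsFractionRing.lift_algebraMap, IsFractionRing.lift_algebraMap]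
      refine (eq_div_iff ?_).2 ?_
      · exact fun h => hy (hbv (h.trans (map_zero bv).symm))
      · change x * bv y = y • x
        rw [Algebra.smul_def, mul_comm]
        rfl
    refine ⟨algebraMap B' F ⟨_, hyx'⟩ / algebraMap B' F y, jF.injective ?_⟩
    rw [map_zero, ← Polynomial.eval_map_apply, ← hx']
    exact hx
  let M : Submonoid D := (nonZeroDivisors B').map ιB
  have hM : M ≤ nonZeroDivisors D := by
    rintro _ ⟨b, hb', rfl⟩
    exact mem_nonZeroDivisors_of_ne_zero fun h =>
      nonZeroDivisors.ne_zero hb' (hinj (h.trans (map_zero ιB).symm))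
  let A₀ := Localization M
  haveI : IsDomain A₀ := IsLocalization.isDomain_localization hM
  letI : Algebra F A₀ := (IsLocalization.lift (M := nonZeroDivisors B') (S := F)
    (g := (algebraMap D A₀).comp ιB)
    fun b => IsLocalization.map_units A₀ (⟨ιB b, Submonoid.mem_map_of_mem _ b.2⟩ : M)).toAlgebra
  letI : Algebra F L := jF.toAlgebra
  have hM' : ∀ (f : D →+* L), (∀ b, f (ιB b) = b) → ∀ m : M, IsUnit (f m) := by
    rintro f hf ⟨_, b, hb', rfl⟩
    rw [hf]
    exact IsUnit.mk0 _ fun h => nonZeroDivisors.ne_zero hb' (hbv (h.trans (map_zero bv).symm))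
  let mk₀ : ∀ (f : D →+* L), (∀ b, f (ιB b) = b) → (A₀ →ₐ[F] L) := fun f hf =>
    { IsLocalization.lift (hM' f hf) with
      commutes' := fun x => RingHom.congr_fun (f := (IsLocalization.lift (hM' f hf)).comp
        (algebraMap F A₀)) (g := algebraMap F L) (IsLocalization.ringHom_ext (nonZeroDivisors B')
          (RingHom.ext fun b => by
            simp only [RingHom.comp_apply, RingHom.algebraMap_toAlgebra]
            rw [IsLocalization.lift_eq, RingHom.comp_apply, IsLocalization.lift_eq, hf,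
              IsFractionRing.lift_algebraMap]
            rfl)) x }
  let T := L ⊗[F] A₀
  haveI : Nontrivial T :=
    ((Algebra.TensorProduct.productMap (AlgHom.id F L)
      (mk₀ wD fun b => (hwB b).1)).toRingHom).domain_nontrivial
  haveI : NoZeroDivisors T := ⟨fun {x y} h =>
    @Groth.Agent.Lib.GeomConn.SepClosed.eq_zero_or_eq_zero F L A₀ _ hF _ _ _ _ _ _ x y h⟩
  haveI : IsDomain T := NoZeroDivisors.to_isDomain T
  let γ : E →+* T := (Algebra.TensorProduct.includeRight : A₀ →ₐ[F] T).toRingHom.comp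
    ((algebraMap D A₀).comp ((algebraMap E' D).comp
      (Algebra.TensorProduct.includeRight : E →ₐ[R ⊗[Λ] Ω] E').toRingHom))
  refine ⟨T, inferInstance, inferInstance, Algebra.TensorProduct.includeLeftRingHom, γ,
    (Algebra.TensorProduct.productMap (AlgHom.id F L) (mk₀ wD fun b => (hwB b).1)).toRingHom,
    (Algebra.TensorProduct.productMap (AlgHom.id F L) (mk₀ w'D fun b => (hwB b).2)).toRingHom,
    ?_, ?_, ?_, ?_, ?_⟩
  · exact RingHom.ext fun l => Algebra.TensorProduct.productMap_apply_tmul _ _ l 1 |>.trans ((congrArg (l * ·) (map_one _)).trans (mul_one l))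
  · exact RingHom.ext fun l => Algebra.TensorProduct.productMap_apply_tmul _ _ l 1 |>.trans ((congrArg (l * ·) (map_one _)).trans (mul_one l))
  · intro r
    have h1 : ((1 : C') ⊗ₜ[R ⊗[Λ] Ω] algebraMap R E r : E') =
        ((1 : Ω) ⊗ₜ[K₀] algebraMap B B' (algebraMap R B r)) ⊗ₜ (1 : E) := by
      rw [IsScalarTower.algebraMap_apply R (R ⊗[Λ] Ω) E, Algebra.algebraMap_eq_smul_one
        (A := E), ← TensorProduct.smul_tmul, ← Algebra.algebraMap_eq_smul_one]
      congr 1
      change c (r ⊗ₜ 1) = _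
      change ((1 : Ω) ⊗ₜ[K₀] _) * ((1 : Ω) ⊗ₜ[K₀] (1 : B')) = _
      simp
    change (1 : L) ⊗ₜ[F] algebraMap D A₀ (algebraMap E' D ((1 : C') ⊗ₜ algebraMap R E r)) = _
    rw [h1, huR]
    let b := algebraMap B B' (algebraMap R B r)
    have h2 : algebraMap D A₀ (ιB b) = algebraMap F A₀ (algebraMap B' F b) := by
      simp only [RingHom.algebraMap_toAlgebra]
      rw [IsLocalization.lift_eq]
      rfl
    change (1 : L) ⊗ₜ[F] algebraMap D A₀ (ιB b) = _
    rw [h2, Algebra.algebraMap_eq_smul_one (A := A₀), ← TensorProduct.smul_tmul,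
      ← Algebra.algebraMap_eq_smul_one]
    congr 1
    exact IsFractionRing.lift_algebraMap hbv b
  · intro e
    change (1 : L) * IsLocalization.lift _ (algebraMap D A₀ (algebraMap E' D ((1 : C') ⊗ₜ e))) = _
    rw [one_mul, IsLocalization.lift_eq, IsLocalization.lift_eq]
    have : (1 : C') = (1 : Ω) ⊗ₜ[K₀] (1 : B') := rfl
    rw [this, hw, map_one, one_mul, tlift_tmul, map_one, one_mul]
    rfl
  · intro e
    change (1 : L) * IsLocalization.lift _ (algebraMap D A₀ (algebraMap E' D ((1 : C') ⊗ₜ e))) = _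
    rw [one_mul, IsLocalization.lift_eq, IsLocalization.lift_eq]
    have : (1 : C') = (1 : Ω) ⊗ₜ[K₀] (1 : B') := rfl
    rw [this, hw', map_one, one_mul, tlift_tmul, map_one, one_mul]
    rfl

end Groth.Agent.Lib.EtDiscrete
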