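import Groth.Agent.Lib.EtDiscrete.Idem
import Groth.Agent.Lib.EtDiscrete.Irred
import Groth.Agent.Lib.Henselian.StrictHenselization
import Mathlib.RingTheory.Spectrum.Prime.Topology

/-!
# Local tensor products over a strictly henselian ring
-/

set_option autoImplicit false

universe u

open TensorProduct IsLocalRing
open Groth.Agent.Lib.EtSite.LimTensor Groth.Agent.Lib.Henselian.Pointed

noncomputable section

namespace Groth.Agent.Lib.EtDiscrete

/-- A domain integral over a ring has only one prime over a prime with radicial residue extension. -/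
theorem isLocalRing_tensor {A X B' : Type u} [CommRing A] [CommRing X] [CommRing B'] [Algebra A X]
    [Algebra A B'] [HenselianLocalRing A] [IsSepClosed (ResidueField A)] [IsLocalRing X] [IsDomain B']
    [Algebra.IsIntegral A B'] [IsLocalHom (algebraMap A X)] :
    IsLocalRing (X ⊗[A] B') := by
  classical
  haveI : IsLocalRing B' := isLocalRing_of_isIntegral A B'
  haveI : IsLocalHom (algebraMap A B') := ⟨fun x hx => by
    by_contra hx'
    have : (maximalIdeal B').comap (algebraMap A B') = maximalIdeal A :=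
      eq_maximalIdeal (Ideal.isMaximal_comap_of_isIntegral_of_isMaximal _)
    have hmem : x ∈ maximalIdeal A := (mem_maximalIdeal _).2 hx'
    rw [← this] at hmem
    exact (mem_maximalIdeal _).1 (Ideal.mem_comap.1 hmem) hx⟩
  haveI : Algebra.IsIntegral (ResidueField A) (ResidueField B') := ⟨fun x => by
    obtain ⟨b, rfl⟩ := IsLocalRing.residue_surjective x
    exact ((Algebra.IsIntegral.isIntegral (R := A) b).map
      (IsScalarTower.toAlgHom A B' (ResidueField B'))).tower_top⟩
  haveI : Algebra.IsAlgebraic (ResidueField A) (ResidueField B') := inferInstance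
  haveI : IsPurelyInseparable (ResidueField A) (ResidueField B') := inferInstance
  -- nontriviality
  let Ψ := AlgebraicClosure (ResidueField X)
  let φX : X →+* Ψ := (algebraMap (ResidueField X) Ψ).comp (residue X)
  let kX : ResidueField A →+* Ψ :=
    (algebraMap (ResidueField X) Ψ).comp (ResidueField.map (algebraMap A X))
  obtain ⟨φB, hφB⟩ : ∃ φ : B' →+* Ψ, φ.comp (algebraMap A B') = φX.comp (algebraMap A X) := by
    letI : Algebra (ResidueField A) Ψ := kX.toAlgebra
    let l : ResidueField B' →ₐ[ResidueField A] Ψ := IsAlgClosed.lift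
    exact ⟨l.toRingHom.comp (residue B'), RingHom.ext fun a => l.commutes (residue A a)⟩
  haveI : Nontrivial (X ⊗[A] B') := (tlift φX φB hφB.symm).domain_nontrivial
  have hover : ∀ Q : Ideal (X ⊗[A] B'), Q.IsMaximal →
      Q.comap (algebraMap X (X ⊗[A] B')) = maximalIdeal X := fun Q hQ =>
    eq_maximalIdeal (Ideal.isMaximal_comap_of_isIntegral_of_isMaximal Q)
  have hmax : ∀ Q : Ideal (X ⊗[A] B'), Q.IsMaximal → ∀ b ∈ maximalIdeal B',
      ((1 : X) ⊗ₜ[A] b) ∈ Q := by
    intro Q hQ b hb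
    let m' := Q.comap (Algebra.TensorProduct.includeRight : B' →ₐ[A] X ⊗[A] B').toRingHom
    have hm : m'.comap (algebraMap A B') = maximalIdeal A := by
      have h := congrArg (Ideal.comap (algebraMap A X)) (hover Q hQ)
      rw [IsLocalRing.maximalIdeal_comap, Ideal.comap_comap] at h
      rw [← h, Ideal.comap_comap]
      congr 1
      exact RingHom.ext fun a => ((Algebra.TensorProduct.includeRight :
        B' →ₐ[A] X ⊗[A] B').commutes a).trans (IsScalarTower.algebraMap_apply A X (X ⊗[A] B') a)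
    have : m'.IsPrime := Ideal.comap_isPrime _ Q
    have : m'.IsMaximal :=
      Ideal.isMaximal_of_isIntegral_of_isMaximal_comap m' (hm ▸ maximalIdeal.isMaximal A)
    rw [← eq_maximalIdeal this] at hb
    exact hb
  obtain ⟨q, hq⟩ := ExpChar.exists (ResidueField A)
  have key : ∀ Q₁ Q₂ : Ideal (X ⊗[A] B'), Q₁.IsMaximal → Q₂.IsMaximal → Q₁ ≤ Q₂ := by
    intro Q₁ Q₂ hQ₁ hQ₂
    have hJ : ∀ x : X ⊗[A] B', ∃ (n : ℕ) (y : X), x ^ q ^ n - y ⊗ₜ 1 ∈ Q₁ ⊓ Q₂ := by
      intro x
      induction x using TensorProduct.induction_on with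
      | zero => exact ⟨0, 0, by simp⟩
      | tmul e b =>
        obtain ⟨n, c, hc⟩ := IsPurelyInseparable.pow_mem (ResidueField A) q (residue B' b)
        obtain ⟨c, rfl⟩ := IsLocalRing.residue_surjective c
        refine ⟨n, e ^ q ^ n * algebraMap A X c, ?_⟩
        have hd : b ^ q ^ n - algebraMap A B' c ∈ maximalIdeal B' := by
          rw [← residue_eq_zero_iff, map_sub, map_pow, ← hc, sub_eq_zero]
          rfl
        have he : (e ⊗ₜ[A] b) ^ q ^ n - (e ^ q ^ n * algebraMap A X c) ⊗ₜ[A] (1 : B') =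
            ((e ^ q ^ n) ⊗ₜ[A] (1 : B')) * ((1 : X) ⊗ₜ[A] (b ^ q ^ n - algebraMap A B' c)) := by
          rw [Algebra.TensorProduct.tmul_pow, Algebra.TensorProduct.tmul_mul_tmul, mul_one, one_mul,
            TensorProduct.tmul_sub, Algebra.algebraMap_eq_smul_one, Algebra.algebraMap_eq_smul_one,
            mul_smul_comm, mul_one, TensorProduct.smul_tmul]
        rw [he]
        exact Ideal.mul_mem_left _ _ ⟨hmax Q₁ hQ₁ _ hd, hmax Q₂ hQ₂ _ hd⟩
      | add x y hx hy =>
        obtain ⟨n₁, a, ha⟩ := hx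
        obtain ⟨n₂, b, hb'⟩ := hy
        have up : ∀ (n m : ℕ) (x : X ⊗[A] B') (a : X), x ^ q ^ n - a ⊗ₜ 1 ∈ Q₁ ⊓ Q₂ →
            x ^ q ^ (n + m) - (a ^ q ^ m) ⊗ₜ 1 ∈ Q₁ ⊓ Q₂ := by
          intro n m x a h
          rw [pow_add, pow_mul, show (a ^ q ^ m) ⊗ₜ[A] (1 : B') = (a ⊗ₜ[A] (1 : B')) ^ q ^ m by
            rw [Algebra.TensorProduct.tmul_pow, one_pow]]
          exact Ideal.mem_of_dvd _ (sub_dvd_pow_sub_pow _ _ _) h
        have ha' := up n₁ n₂ x a ha
        have hb'' := up n₂ n₁ y b hb'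
        rw [add_comm n₂ n₁] at hb''
        refine ⟨n₁ + n₂, a ^ q ^ n₂ + b ^ q ^ n₁, ?_⟩
        have hadd : (x + y) ^ q ^ (n₁ + n₂) - (x ^ q ^ (n₁ + n₂) + y ^ q ^ (n₁ + n₂)) ∈ Q₁ ⊓ Q₂ := by
          rcases hq with _ | ⟨hp⟩
          · simp
          · obtain ⟨r, hr⟩ := exists_add_pow_prime_pow_eq hp x y (n₁ + n₂)
            rw [hr, add_sub_cancel_left]
            refine Ideal.mul_mem_right _ _ (Ideal.mul_mem_right _ _ (Ideal.mul_mem_right _ _ ?_))
            have hqA : (q : A) ∈ maximalIdeal A := by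
              rw [← residue_eq_zero_iff, map_natCast]
              exact CharP.cast_eq_zero _ q
            have hqX : algebraMap A X (q : A) ∈ maximalIdeal X :=
              map_nonunit (algebraMap A X) _ hqA
            have hqG : algebraMap X (X ⊗[A] B') (algebraMap A X (q : A)) = ((q : ℕ) : X ⊗[A] B') := by
              rw [map_natCast, map_natCast]
            exact ⟨hqG ▸ Ideal.mem_comap.1 ((hover Q₁ hQ₁).symm ▸ hqX),
              hqG ▸ Ideal.mem_comap.1 ((hover Q₂ hQ₂).symm ▸ hqX)⟩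
        rw [TensorProduct.add_tmul]
        convert Ideal.add_mem _ hadd (Ideal.add_mem _ ha' hb'') using 1
        ring
    intro x hx
    obtain ⟨n, y, hy⟩ := hJ x
    have hpos : 0 < q ^ n := pow_pos (expChar_pos (ResidueField A) q) n
    have hxn : x ^ q ^ n ∈ Q₁ := Ideal.pow_mem_of_mem _ hx _ hpos
    have hyX : y ∈ maximalIdeal X :=
      hover Q₁ hQ₁ ▸ Ideal.mem_comap.2 (by
        have h' : x ^ q ^ n - (x ^ q ^ n - y ⊗ₜ[A] (1 : B')) ∈ Q₁ := sub_mem hxn hy.1
        rwa [sub_sub_cancel] at h')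
    have hy2 : y ⊗ₜ[A] (1 : B') ∈ Q₂ := by
      rw [← hover Q₂ hQ₂, Ideal.mem_comap, Algebra.TensorProduct.algebraMap_apply] at hyX
      exact hyX
    exact hQ₂.isPrime.mem_of_pow_mem _ (by
      have h' : x ^ q ^ n - y ⊗ₜ[A] (1 : B') + y ⊗ₜ[A] (1 : B') ∈ Q₂ := add_mem hy.2 hy2
      rwa [sub_add_cancel] at h')
  obtain ⟨Q, hQ⟩ := Ideal.exists_maximal (X ⊗[A] B')
  exact IsLocalRing.of_unique_max_ideal ⟨Q, hQ, fun Q' hQ' => le_antisymm (key Q' Q hQ' hQ) (key Q Q' hQ hQ')⟩

end Groth.Agent.Lib.EtDiscrete
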