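import Groth.Agent.Lib.EtDiscrete.Stage
import Groth.Agent.Lib.EtDiscrete.Gen
import Groth.Agent.Lib.EtDiscrete.Chart

/-!
# Universal effective descent along surjections onto discrete schemes
-/

set_option autoImplicit false

universe u

open CategoryTheory CategoryTheory.Limits AlgebraicGeometry Opposite TensorProduct

noncomputable section

namespace Groth.Agent.Lib.EtDiscrete

open Groth.Agent.Lib.EtSite Groth.Agent.Lib.EtSite.Basic Groth.Agent.Lib.EtSite.SubDescent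
open Groth.Agent.Lib.EtSite.PushStalk Groth.Agent.Lib.EtSite.SubSheaf
open Groth.Agent.Lib.EtSite.Effective

/-- An étale affine neighbourhood carrying a representative of a germ. -/
theorem exists_affine_germ {C : CommRingCat.{u}} (G : EtDesc.Sh (Spec C)) {Ω : Type u} [Field Ω]
    [IsSepClosed Ω] (ζ : Spec (CommRingCat.of Ω) ⟶ Spec C) (c : stalk ζ G) :
    ∃ (E : CommRingCat.{u}) (ψ : C ⟶ E) (_ : Etale (Spec.map ψ)) (ε : E ⟶ CommRingCat.of Ω)
      (h : Spec.map ε ≫ Spec.map ψ = ζ)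
      (s : EtDesc.sect G (Scheme.Etale.mk (Spec.map ψ))),
      germ ζ G (mkFiber ζ (Scheme.Etale.mk (Spec.map ψ)) (Spec.map ε) h) s = c := by
  obtain ⟨U, p, s, rfl⟩ := (Scheme.pointSmallEtale ζ).toPresheafFiber_jointly_surjective (P := G.obj) c
  have : Etale U.hom := U.prop
  obtain ⟨V, hV, hpV, -⟩ :=
    exists_isAffineOpen_mem_and_subset (U := ⊤) (show fiberPt p ∈ (⊤ : U.left.Opens) from trivial)
  let ψ : C ⟶ Γ(U.left, V) := Spec.preimage (hV.fromSpec ≫ U.hom)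
  have hψ : Spec.map ψ = hV.fromSpec ≫ U.hom := Spec.map_preimage _
  have he : Etale (Spec.map ψ) := by rw [hψ]; infer_instance
  have hrange : Set.range (fiberHom p).base ⊆ Set.range hV.fromSpec.base := by
    rintro _ ⟨q, rfl⟩
    rw [hV.range_fromSpec, Subsingleton.elim q default]
    exact hpV
  let ε : Γ(U.left, V) ⟶ CommRingCat.of Ω :=
    Spec.preimage (IsOpenImmersion.lift hV.fromSpec (fiberHom p) hrange)
  have hε : Spec.map ε ≫ hV.fromSpec = fiberHom p := by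
    rw [Spec.map_preimage]
    exact IsOpenImmersion.lift_fac _ _ _
  let U₁ : (Spec C).Etale := Scheme.Etale.mk (Spec.map ψ)
  let j : U₁ ⟶ U := MorphismProperty.Over.homMk hV.fromSpec hψ.symm
  have h : Spec.map ε ≫ Spec.map ψ = ζ := by
    rw [hψ, ← Category.assoc, hε]
    exact fiberHom_comp p
  refine ⟨Γ(U.left, V), ψ, he, ε, h, G.obj.map j.op s, ?_⟩
  refine (germ_map ζ G j _ s).trans (congrArg (fun r => germ ζ G r s) ?_)
  exact Over.OverMorphism.ext hε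

/-- The locus of pairs on which a global section on `Spec E` is compatible with the datum. -/
theorem exists_ideal {X S : Scheme.{u}} (f : X ⟶ S) (F' : EtDesc.Sh X)
    (φ : (EtDesc.pullSh (pullback.fst f f)).obj F' ≅ (EtDesc.pullSh (pullback.snd f f)).obj F')
    (hφ : EtDesc.IsCocycle F' φ) {R E : Type u} [CommRing R] [CommRing E] [Algebra R E]
    (iR : Spec (CommRingCat.of R) ⟶ S) (ru : Spec (CommRingCat.of E) ⟶ X)
    (w : ru ≫ f = Spec.map (CommRingCat.ofHom (algebraMap R E)) ≫ iR)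
    (τ : EtDesc.sect ((EtDesc.pullSh ru).obj F') (EtCoh.top (Spec (CommRingCat.of E)))) :
    ∃ I : Ideal (E ⊗[R] E),
      ∀ (L : Type u) [Field L] [IsSepClosed L] (a c : E →+* L)
        (h : a.comp (algebraMap R E) = c.comp (algebraMap R E))
        (z₁ z₂ : Spec (CommRingCat.of L) ⟶ Spec (CommRingCat.of E))
        (_ : z₁ = Spec.map (CommRingCat.ofHom a)) (_ : z₂ = Spec.map (CommRingCat.ofHom c))
        (η : Spec (CommRingCat.of L) ⟶ S) (k₁ : (z₁ ≫ ru) ≫ f = η) (k₂ : (z₂ ≫ ru) ≫ f = η)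
        (y₁ : stalk (z₁ ≫ ru) F') (y₂ : stalk (z₂ ≫ ru) F'),
        germ z₁ _ (topPt z₁) τ = germUnit ru F' rfl y₁ →
        germ z₂ _ (topPt z₂) τ = germUnit ru F' rfl y₂ →
        (IsGoodPair I a c h ↔ transport f F' φ k₁ k₂ y₁ = y₂) := by
  let πu := Spec.map (CommRingCat.ofHom (algebraMap R E))
  obtain ⟨φ', -, htr⟩ := FppfDescent.exists_restricted f F' φ hφ πu iR ru w
  let G := (EtDesc.pullSh ru).obj F'
  let T := EtCoh.top (Spec (CommRingCat.of R))
  let t : EtDesc.sect G ((EtCoh.bc πu).obj T) := G.obj.map (EtCore.bcTopIso πu).hom.op τ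
  obtain ⟨O, hO, hmem⟩ := exists_compat_locus πu G φ' T t
  let bb := pullback.fst πu πu ≫ πu
  let j : Spec (CommRingCat.of (E ⊗[R] E)) ⟶ pullback T.hom bb :=
    pullback.lift ((pullbackSpecIso R E E).inv ≫ bb) (pullbackSpecIso R E E).inv (Category.comp_id _)
  refine ⟨PrimeSpectrum.vanishingIdeal (j.base ⁻¹' O)ᶜ,
    fun L _ _ a c h z₁ z₂ hz₁ hz₂ η k₁ k₂ y₁ y₂ hy₁ hy₂ => ?_⟩
  let θ := Spec.map (CommRingCat.ofHom (tlift a c h)) ≫ (pullbackSpecIso R E E).inv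
  have hθ₁ : θ ≫ pullback.fst πu πu = z₁ := by
    rw [Category.assoc, pullbackSpecIso_inv_fst, ← Spec.map_comp, hz₁]
    refine congrArg Spec.map (CommRingCat.hom_ext (RingHom.ext fun e => ?_))
    change a e * c 1 = a e
    rw [map_one, mul_one]
  have hθ₂ : θ ≫ pullback.snd πu πu = z₂ := by
    rw [Category.assoc, pullbackSpecIso_inv_snd, ← Spec.map_comp, hz₂]
    refine congrArg Spec.map (CommRingCat.hom_ext (RingHom.ext fun e => ?_))
    change a 1 * c e = c e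
    rw [map_one, one_mul]
  have h₁ : z₁ ≫ πu = z₁ ≫ πu := rfl
  have h₂ : z₂ ≫ πu = z₁ ≫ πu := by
    rw [← hθ₁, ← hθ₂, Category.assoc θ, Category.assoc θ, pullback.condition]
  have hb : θ ≫ bb = z₁ ≫ πu := by rw [← Category.assoc, hθ₁]
  let p : (Scheme.pointSmallEtale (z₁ ≫ πu)).fiber.obj T := topPt _
  have hm := hmem L (z₁ ≫ πu) z₁ z₂ h₁ h₂ θ hθ₁ hθ₂ hb p
  have hpt : fiberPt (liftPt bb hb T p) =
      j.base ((Spec.map (CommRingCat.ofHom (tlift a c h))).base default) := by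
    have e : fiberHom (liftPt bb hb T p) = Spec.map (CommRingCat.ofHom (tlift a c h)) ≫ j := by
      refine pullback.hom_ext ((pullback.lift_fst _ _ _).trans ?_) ((pullback.lift_snd _ _ _).trans ?_)
      · rw [Category.assoc, pullback.lift_fst, ← Category.assoc]
        exact (fiberHom_comp p).symm.trans ((Category.comp_id _).trans rfl) |>.symm.trans hb.symm
      · rw [Category.assoc, pullback.lift_snd]
    exact congrArg (fun m : Spec (CommRingCat.of L) ⟶ pullback T.hom bb => m.base default) e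
  have hker : IsGoodPair (PrimeSpectrum.vanishingIdeal (j.base ⁻¹' O)ᶜ) a c h ↔
      j.base ((Spec.map (CommRingCat.ofHom (tlift a c h))).base default) ∈ O := by
    have hcl : IsClosed (j.base ⁻¹' O)ᶜ := (hO.preimage j.continuous).isClosed_compl
    have hP : ((Spec.map (CommRingCat.ofHom (tlift a c h))).base default : PrimeSpectrum _).asIdeal =
        RingHom.ker (tlift a c h) := by
      rw [show ((Spec.map (CommRingCat.ofHom (tlift a c h))).base default : PrimeSpectrum _) =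
        PrimeSpectrum.comap (tlift a c h) (⊥ : PrimeSpectrum L) from
          congrArg (PrimeSpectrum.comap (tlift a c h)) (Subsingleton.elim _ _)]
      rfl
    have hz := (PrimeSpectrum.zeroLocus_vanishingIdeal_eq_closure (j.base ⁻¹' O)ᶜ).trans hcl.closure_eq
    let P : PrimeSpectrum (E ⊗[R] E) := (Spec.map (CommRingCat.ofHom (tlift a c h))).base default
    have hiff : PrimeSpectrum.vanishingIdeal (j.base ⁻¹' O)ᶜ ≤ RingHom.ker (tlift a c h) ↔
        P ∈ (j.base ⁻¹' O)ᶜ := by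
      rw [← show P.asIdeal = RingHom.ker (tlift a c h) from hP]
      exact SetLike.coe_subset_coe.symm.trans ((PrimeSpectrum.mem_zeroLocus P _).symm.trans
        (iff_of_eq (congrArg (P ∈ ·) hz)))
    exact (not_congr hiff).trans not_not
  refine hker.trans ((iff_of_eq (congrArg (· ∈ O) hpt.symm)).trans (hm.trans ?_))
  have g₁' : germ z₁ G (liftPt πu h₁ T p) t = germUnit ru F' rfl y₁ :=
    (germ_map_bcTop πu G τ z₁ h₁ p).trans hy₁
  have g₂' : germ z₂ G (liftPt πu h₂ T p) t = germUnit ru F' rfl y₂ :=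
    (germ_map_bcTop πu G τ z₂ h₂ p).trans hy₂
  rw [g₁', g₂', htr L _ z₁ z₂ η h₁ h₂ k₁ k₂ y₁]
  exact ⟨fun e => (bijective_germUnit ru F' rfl).1 e, fun e => congrArg _ e⟩

variable {X Y X₁ Y₁ : Scheme.{u}} {g : X ⟶ Y} {g₁ : X₁ ⟶ Y₁} {b' : X₁ ⟶ X} {b : Y₁ ⟶ Y}

/-- Effective descent along base changes of surjections onto discrete schemes. -/
theorem isEffective [DiscreteTopology Y] [Surjective g] (sq : IsPullback b' g₁ g b)
    (F' : EtDesc.Sh X₁)
    (φ : (EtDesc.pullSh (pullback.fst g₁ g₁)).obj F' ≅ (EtDesc.pullSh (pullback.snd g₁ g₁)).obj F')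
    (hφ : EtDesc.IsCocycle F' φ) : EtDesc.IsEffective g₁ F' φ := by
  refine isEffective_of_extend g₁ F' φ (isUnivSubmersive sq) fun x => ?_
  refine ⟨_, inferInstance, inferInstance, Push.algPoint X₁ x, Push.algPoint_apply X₁ x default,
    fun gg => ?_⟩
  obtain ⟨Λ, k, R, _, _, _, _, _, _, _, _, αR, iR, r, hsurj, hiR, hr, hvv, hζ⟩ := exists_chart sq x
  let Ω := AlgebraicClosure (X₁.residueField x)
  let ζ : Spec (CommRingCat.of Ω) ⟶ Spec (CommRingCat.of (R ⊗[Λ] Ω)) :=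
    Spec.map (CommRingCat.ofHom (Algebra.TensorProduct.productMap αR (AlgHom.id Λ Ω)).toRingHom)
  have hζr : ζ ≫ r = Push.algPoint X₁ x := hζ
  obtain ⟨E, ψ, hψe, εc, hεψ, s, hs⟩ :=
    exists_affine_germ ((EtDesc.pullSh r).obj F') ζ (germUnit r F' hζr gg)
  letI : Algebra (R ⊗[Λ] Ω) E := ψ.hom.toAlgebra
  letI : Algebra R E :=
    (ψ.hom.comp (Algebra.TensorProduct.includeLeftRingHom : R →+* R ⊗[Λ] Ω)).toAlgebra
  haveI : IsScalarTower R (R ⊗[Λ] Ω) E := IsScalarTower.of_algebraMap_eq fun _ => rfl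
  haveI : Algebra.Etale (R ⊗[Λ] Ω) E := (HasRingHomProperty.Spec_iff (P := @Etale)).1 hψe
  letI : Algebra R Ω := αR.toRingHom.toAlgebra
  have hεψ' : εc.hom.comp ψ.hom =
      (Algebra.TensorProduct.productMap αR (AlgHom.id Λ Ω)).toRingHom :=
    congrArg CommRingCat.Hom.hom (Spec.map_injective ((Spec.map_comp ψ εc).trans hεψ))
  let ε : E →ₐ[R] Ω := { εc.hom with
    commutes' := fun a => (RingHom.congr_fun hεψ' (a ⊗ₜ 1)).trans (by
      simp [RingHom.algebraMap_toAlgebra]) }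
  let U₁ : (Spec (CommRingCat.of (R ⊗[Λ] Ω))).Etale := Scheme.Etale.mk (Spec.map ψ)
  let ru : Spec (CommRingCat.of E) ⟶ X₁ := Spec.map ψ ≫ r
  have hru : ru ≫ g₁ = Spec.map (CommRingCat.ofHom (algebraMap R E)) ≫ iR := by
    change (Spec.map ψ ≫ r) ≫ g₁ = _
    rw [Category.assoc, hr, ← Category.assoc, ← Spec.map_comp]
    rfl
  let τ : EtDesc.sect ((EtDesc.pullSh ru).obj F') (EtCoh.top (Spec (CommRingCat.of E))) :=
    (EtDesc.pullVia (Spec.map ψ) r ru rfl F').hom.hom.app (op (EtCoh.top _))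
      (FppfDescent.toTopSec U₁ ((EtDesc.pullSh r).obj F') s)
  obtain ⟨I, hI⟩ := exists_ideal g₁ F' φ hφ iR ru hru τ
  have hval : ∀ (L : Type u) [Field L] [IsSepClosed L]
      (z : Spec (CommRingCat.of L) ⟶ Spec (CommRingCat.of E)),
      ∃ y : stalk (z ≫ ru) F', germ z _ (topPt z) τ = germUnit ru F' rfl y := by
    intro L _ _ z
    obtain ⟨y, hy⟩ := (bijective_germUnit ru F' (rfl : z ≫ ru = z ≫ ru)).2 (germ z _ (topPt z) τ)
    exact ⟨y, hy.symm⟩
  have hfib : ∀ (L : Type u) [Field L] (a c : E →+* L)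
      (_ : a.comp (algebraMap R E) = c.comp (algebraMap R E)),
      (Spec.map (CommRingCat.ofHom c) ≫ ru) ≫ g₁ = (Spec.map (CommRingCat.ofHom a) ≫ ru) ≫ g₁ := by
    intro L _ a c h
    rw [Category.assoc _ ru g₁, Category.assoc _ ru g₁, hru, ← Category.assoc, ← Category.assoc, ← Spec.map_comp,
      ← Spec.map_comp, ← CommRingCat.ofHom_comp, ← CommRingCat.ofHom_comp, h]
  obtain ⟨R', _, _, _, α', hh, hh0, hgood⟩ := exists_nbhd (Λ := Λ) (k := k) hsurj ε I
    (fun L _ _ a => by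
      obtain ⟨y, hy⟩ := hval L (Spec.map (CommRingCat.ofHom a))
      exact (hI L a a rfl _ _ rfl rfl _ rfl rfl y y hy hy).2 (transport_refl g₁ F' φ hφ rfl y))
    (fun L _ _ a c a' h h' h₁ h₂ => by
      obtain ⟨y, hy⟩ := hval L (Spec.map (CommRingCat.ofHom a))
      obtain ⟨yc, hyc⟩ := hval L (Spec.map (CommRingCat.ofHom c))
      obtain ⟨y', hy'⟩ := hval L (Spec.map (CommRingCat.ofHom a'))
      have e1 := (hI L a c h _ _ rfl rfl _ rfl (hfib L a c h) y yc hy hyc).1 h₁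
      have e2 := (hI L a' c h' _ _ rfl rfl _ (hfib L a a' (h.trans h'.symm))
        (hfib L a c h) y' yc hy' hyc).1 h₂
      refine (hI L a a' (h.trans h'.symm) _ _ rfl rfl _ rfl (hfib L a a' (h.trans h'.symm))
        y y' hy hy').2 ?_
      rw [← e2] at e1
      have := congrArg (transport g₁ F' φ (hfib L a c h) (hfib L a a' (h.trans h'.symm))) e1
      rwa [transport_trans g₁ F' φ hφ, transport_trans g₁ F' φ hφ, transport_refl g₁ F' φ hφ] at this)
  -- the neighbourhood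
  let M := Localization.Away hh
  let πR : Spec (CommRingCat.of M) ⟶ Spec (CommRingCat.of R') :=
    Spec.map (CommRingCat.ofHom ((algebraMap (R' ⊗[R] E) M).comp
      (Algebra.TensorProduct.includeLeftRingHom : R' →+* R' ⊗[R] E)))
  have hopen : UniversallyOpen πR := by
    have hψo : UniversallyOpen (Spec.map ψ) := inferInstance
    have hEo : UniversallyOpen (Spec.map (CommRingCat.ofHom (algebraMap R E))) := by
      rw [show Spec.map (CommRingCat.ofHom (algebraMap R E)) = Spec.map ψ ≫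
        Spec.map (CommRingCat.ofHom
          (Algebra.TensorProduct.includeLeftRingHom : R →+* R ⊗[Λ] Ω)) from Spec.map_comp _ _]
      infer_instance
    have h1 : UniversallyOpen (Spec.map (CommRingCat.ofHom
        (Algebra.TensorProduct.includeLeftRingHom : R' →+* R' ⊗[R] E))) := by
      rw [← pullbackSpecIso_inv_fst R R' E]
      infer_instance
    have h2 : IsOpenImmersion (Spec.map (CommRingCat.ofHom (algebraMap (R' ⊗[R] E) M))) :=
      IsOpenImmersion.of_isLocalization hh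
    rw [show πR = Spec.map (CommRingCat.ofHom (algebraMap (R' ⊗[R] E) M)) ≫
      Spec.map (CommRingCat.ofHom (Algebra.TensorProduct.includeLeftRingHom : R' →+* R' ⊗[R] E))
      from (by rw [← Spec.map_comp]; rfl)]
    infer_instance
  let W₀ : (Spec (CommRingCat.of R')).Opens := ⟨Set.range πR.base, πR.isOpenMap.isOpen_range⟩
  let π := πR ∣_ W₀
  have hπ : EtDesc.IsUnivSubmersive π := by
    have : Surjective π := ⟨fun w => by
      obtain ⟨z, hz⟩ := w.2
      refine ⟨⟨z, ⟨z, rfl⟩⟩, Subtype.ext ?_⟩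
      rw [morphismRestrict_base]
      exact hz⟩
    have : UniversallyOpen π := IsZariskiLocalAtTarget.restrict hopen W₀
    exact fun T h => ⟨(pullback.snd π h).surjective, IsOpenMap.isQuotientMap
      (pullback.snd π h).isOpenMap (pullback.snd π h).continuous (pullback.snd π h).surjective⟩
  have hR'et : Etale (Spec.map (CommRingCat.ofHom (algebraMap R R'))) :=
    (HasRingHomProperty.Spec_iff (P := @Etale)).2 (RingHom.etale_algebraMap.2 inferInstance)
  let W : Y₁.Etale := Scheme.Etale.mk (W₀.ι ≫ Spec.map (CommRingCat.ofHom (algebraMap R R')) ≫ iR)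
  let jE : Spec (CommRingCat.of M) ⟶ Spec (CommRingCat.of E) :=
    Spec.map (CommRingCat.ofHom ((algebraMap (R' ⊗[R] E) M).comp
      (Algebra.TensorProduct.includeRight : E →ₐ[R] R' ⊗[R] E).toRingHom))
  let jZ := (πR ⁻¹ᵁ W₀).ι ≫ jE
  let rZ := jZ ≫ ru
  have hsq : jE ≫ Spec.map (CommRingCat.ofHom (algebraMap R E)) =
      πR ≫ Spec.map (CommRingCat.ofHom (algebraMap R R')) := by
    rw [← Spec.map_comp, ← Spec.map_comp]
    refine congrArg Spec.map (CommRingCat.hom_ext (RingHom.ext fun a => ?_))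
    change algebraMap (R' ⊗[R] E) M ((1 : R') ⊗ₜ algebraMap R E a) =
      algebraMap (R' ⊗[R] E) M (algebraMap R R' a ⊗ₜ (1 : E))
    rw [Algebra.algebraMap_eq_smul_one (A := E), Algebra.algebraMap_eq_smul_one (A := R'),
      TensorProduct.smul_tmul]
  have hw : rZ ≫ g₁ = π ≫ W.hom := by
    change (((πR ⁻¹ᵁ W₀).ι ≫ jE) ≫ ru) ≫ g₁ = π ≫ W₀.ι ≫ _
    rw [Category.assoc _ ru g₁, hru, ← Category.assoc, Category.assoc _ jE, hsq,
      ← Category.assoc π W₀.ι, morphismRestrict_ι]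
    simp only [Category.assoc]
  let τZ : EtDesc.sect ((EtDesc.pullSh rZ).obj F') (EtCoh.top _) :=
    (EtDesc.pullVia jZ ru rZ rfl F').hom.hom.app (op (EtCoh.top _))
      (EtDesc.secPull jZ _ τ)
  have hgermZ : ∀ (L : Type u) [Field L] [IsSepClosed L]
      (z : Spec (CommRingCat.of L) ⟶ ((πR ⁻¹ᵁ W₀) : Scheme.{u}))
      (z' : Spec (CommRingCat.of L) ⟶ Spec (CommRingCat.of E)) (hz : z ≫ jZ = z')
      (ξ : Spec (CommRingCat.of L) ⟶ X₁) (hξ : z' ≫ ru = ξ) (hξ' : z ≫ rZ = ξ) (y : stalk ξ F'),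
      germ z' _ (topPt z') τ = germUnit ru F' hξ y →
      germ z _ (topPt z) τZ = germUnit rZ F' hξ' y := by
    intro L _ _ z z' hz ξ hξ hξ' y hy
    refine (stalkMap_germ z (EtDesc.pullVia jZ ru rZ rfl F').hom (topPt z) _).symm.trans ?_
    rw [germ_secPull jZ _ hz, hy, pullVia_germUnit ru jZ rZ rfl F' hz hξ hξ']
  have hτZ : ∀ (L : Type u) [Field L] [IsSepClosed L] (η : Spec (CommRingCat.of L) ⟶ Y₁)
      (z₁ z₂ : Spec (CommRingCat.of L) ⟶ ((πR ⁻¹ᵁ W₀) : Scheme.{u})) (_ : z₁ ≫ π = z₂ ≫ π)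
      (k₁ : (z₁ ≫ rZ) ≫ g₁ = η) (k₂ : (z₂ ≫ rZ) ≫ g₁ = η)
      (y₁ : stalk (z₁ ≫ rZ) F') (y₂ : stalk (z₂ ≫ rZ) F'),
      germ z₁ _ (topPt z₁) τZ = germUnit rZ F' rfl y₁ →
      germ z₂ _ (topPt z₂) τZ = germUnit rZ F' rfl y₂ →
      transport g₁ F' φ k₁ k₂ y₁ = y₂ := by
    intro L _ _ η z₁ z₂ he k₁ k₂ y₁ y₂ hy₁ hy₂
    let m₁ := Spec.preimage (z₁ ≫ (πR ⁻¹ᵁ W₀).ι)
    let m₂ := Spec.preimage (z₂ ≫ (πR ⁻¹ᵁ W₀).ι)
    let a := m₁.hom.comp (algebraMap (R' ⊗[R] E) M)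
    let c := m₂.hom.comp (algebraMap (R' ⊗[R] E) M)
    have he' : (z₁ ≫ (πR ⁻¹ᵁ W₀).ι) ≫ πR = (z₂ ≫ (πR ⁻¹ᵁ W₀).ι) ≫ πR := by
      rw [Category.assoc, Category.assoc, ← morphismRestrict_ι, ← Category.assoc, ← Category.assoc, he]
    have hac : ∀ b : R', a (b ⊗ₜ 1) = c (b ⊗ₜ 1) := by
      intro b
      rw [← Spec.map_preimage (z₁ ≫ (πR ⁻¹ᵁ W₀).ι), ← Spec.map_preimage (z₂ ≫ (πR ⁻¹ᵁ W₀).ι),
        ← Spec.map_comp, ← Spec.map_comp] at he'
      exact RingHom.congr_fun (congrArg CommRingCat.Hom.hom (Spec.map_injective he')) b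
    have hu : IsUnit (algebraMap (R' ⊗[R] E) M hh) := IsLocalization.Away.algebraMap_isUnit hh
    have hag : (a.comp (Algebra.TensorProduct.includeRight : E →ₐ[R] R' ⊗[R] E).toRingHom).comp
          (algebraMap R E) =
        (c.comp (Algebra.TensorProduct.includeRight : E →ₐ[R] R' ⊗[R] E).toRingHom).comp
          (algebraMap R E) := RingHom.ext fun r₀ => by
      change a (1 ⊗ₜ algebraMap R E r₀) = c (1 ⊗ₜ algebraMap R E r₀)
      rw [Algebra.algebraMap_eq_smul_one, ← TensorProduct.smul_tmul]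
      exact hac _
    have hg := hgood L a c hac (hu.map m₁.hom).ne_zero (hu.map m₂.hom).ne_zero hag
    have hz : ∀ (z : Spec (CommRingCat.of L) ⟶ ((πR ⁻¹ᵁ W₀) : Scheme.{u}))
        (m : CommRingCat.of M ⟶ CommRingCat.of L), Spec.map m = z ≫ (πR ⁻¹ᵁ W₀).ι →
        z ≫ jZ = Spec.map (CommRingCat.ofHom ((m.hom.comp (algebraMap (R' ⊗[R] E) M)).comp
          (Algebra.TensorProduct.includeRight : E →ₐ[R] R' ⊗[R] E).toRingHom)) := by
      intro z m hm
      change z ≫ (πR ⁻¹ᵁ W₀).ι ≫ jE = _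
      rw [← Category.assoc, ← hm, ← Spec.map_comp]
      rfl
    have hz₁ := hz z₁ m₁ (Spec.map_preimage _)
    have hz₂ := hz z₂ m₂ (Spec.map_preimage _)
    obtain ⟨u₁, hu₁⟩ := hval L (z₁ ≫ jZ)
    obtain ⟨u₂, hu₂⟩ := hval L (z₂ ≫ jZ)
    have key := (hI L _ _ hag _ _ hz₁ hz₂ η
      (by simpa [rZ, Category.assoc] using k₁) (by simpa [rZ, Category.assoc] using k₂)
      u₁ u₂ hu₁ hu₂).1 hg
    have cg : ∀ (ξ₁ : Spec (CommRingCat.of L) ⟶ X₁) (e₁ : z₁ ≫ rZ = ξ₁)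
        (ξ₂ : Spec (CommRingCat.of L) ⟶ X₁) (e₂ : z₂ ≫ rZ = ξ₂) (h₁ : ξ₁ ≫ g₁ = η) (h₂ : ξ₂ ≫ g₁ = η)
        (v₁ : stalk ξ₁ F') (v₂ : stalk ξ₂ F'),
        germ z₁ _ (topPt z₁) τZ = germUnit rZ F' e₁ v₁ →
        germ z₂ _ (topPt z₂) τZ = germUnit rZ F' e₂ v₂ →
        transport g₁ F' φ h₁ h₂ v₁ = v₂ → transport g₁ F' φ k₁ k₂ y₁ = y₂ := by
      intro ξ₁ e₁ ξ₂ e₂ h₁ h₂ v₁ v₂ hv₁ hv₂ hh'
      subst e₁ e₂
      rw [(bijective_germUnit rZ F' rfl).1 (hy₁.symm.trans hv₁),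
        (bijective_germUnit rZ F' rfl).1 (hy₂.symm.trans hv₂)]
      exact hh'
    exact cg _ (Category.assoc _ _ _).symm _ (Category.assoc _ _ _).symm _ _ u₁ u₂
      (hgermZ L z₁ _ rfl _ rfl _ u₁ hu₁) (hgermZ L z₂ _ rfl _ rfl _ u₂ hu₂) key
  -- the point
  let m₀ : CommRingCat.of M ⟶ CommRingCat.of Ω := CommRingCat.ofHom
    (IsLocalization.Away.lift (S := M) hh
      (g := (Algebra.TensorProduct.productMap α' ε).toRingHom) (IsUnit.mk0 _ hh0))
  let z₀ : Spec (CommRingCat.of Ω) ⟶ ((πR ⁻¹ᵁ W₀) : Scheme.{u}) :=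
    IsOpenImmersion.lift (πR ⁻¹ᵁ W₀).ι (Spec.map m₀) (by
      rintro _ ⟨q, rfl⟩
      rw [Scheme.Opens.range_ι]
      exact ⟨(Spec.map m₀).base q, rfl⟩)
  have hz₀ : z₀ ≫ jZ = Spec.map εc := by
    change z₀ ≫ (πR ⁻¹ᵁ W₀).ι ≫ jE = _
    rw [← Category.assoc, IsOpenImmersion.lift_fac, ← Spec.map_comp]
    refine congrArg Spec.map (CommRingCat.hom_ext (RingHom.ext fun e => ?_))
    change IsLocalization.Away.lift (S := M) hh (g := (Algebra.TensorProduct.productMap α' ε).toRingHom) (IsUnit.mk0 _ hh0)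
      (algebraMap (R' ⊗[R] E) M ((1 : R') ⊗ₜ e)) = _
    rw [IsLocalization.Away.lift_eq]
    change α' 1 * ε e = _
    rw [map_one, one_mul]
    rfl
  have hεru : Spec.map εc ≫ ru = Push.algPoint X₁ x := by
    change Spec.map εc ≫ Spec.map ψ ≫ r = _
    rw [← Category.assoc, hεψ, hζr]
  have hξ₀ : z₀ ≫ rZ = Push.algPoint X₁ x := by
    change z₀ ≫ jZ ≫ ru = _
    rw [← Category.assoc, hz₀, hεru]
  have hgτ : germ (Spec.map εc) _ (topPt _) τ = germUnit ru F' hεru gg := by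
    refine (stalkMap_germ _ (EtDesc.pullVia (Spec.map ψ) r ru rfl F').hom (topPt _) _).symm.trans ?_
    have e : germ (Spec.map εc) _ (topPt _) (FppfDescent.toTopSec U₁ ((EtDesc.pullSh r).obj F') s) =
        germUnit U₁.hom _ (fiberHom_comp (mkFiber ζ U₁ (Spec.map εc) hεψ))
          (germ ζ _ (mkFiber ζ U₁ (Spec.map εc) hεψ) s) :=
      FppfDescent.germ_toTopSec U₁ _ s (mkFiber ζ U₁ (Spec.map εc) hεψ)
    refine (congrArg (stalkMap _ _) (e.trans (congrArg _ hs))).trans ?_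
    exact pullVia_germUnit r (Spec.map ψ) ru rfl F' hεψ hζr hεru gg
  obtain ⟨q, t, ht, htg⟩ := exists_compat_of_submersive g₁ F' φ hφ W π hπ rZ hw τZ hτZ z₀ _ hξ₀ gg
    (hgermZ Ω z₀ _ hz₀ _ hεru hξ₀ gg hgτ)
  exact ⟨W, q, t, ht, htg⟩

end Groth.Agent.Lib.EtDiscrete
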