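import Groth.Agent.Lib.EtDiscrete.Irred
import Groth.Agent.Lib.EtSite.LimTensor
import Mathlib.FieldTheory.IsAlgClosed.AlgebraicClosure
import Mathlib.RingTheory.Localization.FractionRing

/-!
# An étale neighbourhood over which a generization-stable transitive locus contains all pairs
-/

set_option autoImplicit false

universe u

open TensorProduct IsLocalRing
open Groth.Agent.Lib.EtSite.LimTensor Groth.Agent.Lib.Henselian.Pointed

noncomputable section

namespace Groth.Agent.Lib.EtDiscrete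

/-- The pair of points given by two ring maps. -/
abbrev IsGoodPair {R E : Type u} [CommRing R] [CommRing E] [Algebra R E] (I : Ideal (E ⊗[R] E))
    {L : Type u} [CommRing L] (a c : E →+* L)
    (h : a.comp (algebraMap R E) = c.comp (algebraMap R E)) : Prop :=
  ¬ I ≤ RingHom.ker (tlift a c h)

theorem isGoodPair_mono {R E : Type u} [CommRing R] [CommRing E] [Algebra R E] {I : Ideal (E ⊗[R] E)}
    {T L : Type u} [CommRing T] [CommRing L] (s : T →+* L) {a c : E →+* T}
    (h : a.comp (algebraMap R E) = c.comp (algebraMap R E)) {a' c' : E →+* L}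
    (h' : a'.comp (algebraMap R E) = c'.comp (algebraMap R E))
    (ha : ∀ e, s (a e) = a' e) (hc : ∀ e, s (c e) = c' e) (hg : IsGoodPair I a' c' h') :
    IsGoodPair I a c h := fun hle => hg fun x hx => by
  have e : ∀ y, s (tlift a c h y) = tlift a' c' h' y := fun y => by
    induction y using TensorProduct.induction_on with
    | zero => simp
    | tmul e₁ e₂ => rw [tlift_tmul, tlift_tmul, map_mul, ha, hc]
    | add y₁ y₂ h₁ h₂ => rw [map_add, map_add, map_add, h₁, h₂]
  rw [RingHom.mem_ker, ← e, RingHom.mem_ker.1 (hle hx), map_zero]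

theorem isGoodPair_of_injective {R E : Type u} [CommRing R] [CommRing E] [Algebra R E]
    {I : Ideal (E ⊗[R] E)} {T L : Type u} [CommRing T] [CommRing L] (s : T →+* L)
    (hs : Function.Injective s) {a c : E →+* T}
    (h : a.comp (algebraMap R E) = c.comp (algebraMap R E)) {a' c' : E →+* L}
    (h' : a'.comp (algebraMap R E) = c'.comp (algebraMap R E))
    (ha : ∀ e, s (a e) = a' e) (hc : ∀ e, s (c e) = c' e) (hg : IsGoodPair I a c h) :
    IsGoodPair I a' c' h' := fun hle => hg fun x hx => by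
  have e : ∀ y, s (tlift a c h y) = tlift a' c' h' y := fun y => by
    induction y using TensorProduct.induction_on with
    | zero => simp
    | tmul e₁ e₂ => rw [tlift_tmul, tlift_tmul, map_mul, ha, hc]
    | add y₁ y₂ h₁ h₂ => rw [map_add, map_add, map_add, h₁, h₂]
  exact RingHom.mem_ker.2 (hs (by rw [e, map_zero]; exact hle hx))

section Maps

variable (R : Type u) [CommRing R] {E : Type u} [CommRing E] [Algebra R E]

/-- The two maps from `N ⊗ E` to `N ⊗ (E ⊗ E)`. -/
abbrev j₁ (N : Type u) [CommRing N] [Algebra R N] : N ⊗[R] E →ₐ[R] N ⊗[R] (E ⊗[R] E) :=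
  Algebra.TensorProduct.map (AlgHom.id R N) Algebra.TensorProduct.includeLeft

/-- The second of them. -/
abbrev j₂ (N : Type u) [CommRing N] [Algebra R N] : N ⊗[R] E →ₐ[R] N ⊗[R] (E ⊗[R] E) :=
  Algebra.TensorProduct.map (AlgHom.id R N) Algebra.TensorProduct.includeRight

theorem tmap_j₁ {N N' : Type u} [CommRing N] [Algebra R N] [CommRing N'] [Algebra R N']
    (ψ : N →ₐ[R] N') (x : N ⊗[R] E) :
    tmap (E ⊗[R] E) ψ (j₁ R N x) = j₁ R N' (tmap E ψ x) := by
  induction x using TensorProduct.induction_on with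
  | zero => simp
  | tmul a b => simp
  | add a b ha hb => simp only [map_add, ha, hb]

theorem tmap_j₂ {N N' : Type u} [CommRing N] [Algebra R N] [CommRing N'] [Algebra R N']
    (ψ : N →ₐ[R] N') (x : N ⊗[R] E) :
    tmap (E ⊗[R] E) ψ (j₂ R N x) = j₂ R N' (tmap E ψ x) := by
  induction x using TensorProduct.induction_on with
  | zero => simp
  | tmul a b => simp
  | add a b ha hb => simp only [map_add, ha, hb]

end Maps

set_option maxHeartbeats 400000 in
/-- An étale neighbourhood of the point on which all pairs are good. -/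
theorem exists_nbhd {Λ k R Ω : Type u} [CommRing Λ] [Field k] [Algebra Λ k] [Field Ω] [IsAlgClosed Ω]
    [Algebra Λ Ω] [Algebra k Ω] [IsScalarTower Λ k Ω]
    [CommRing R] [Algebra Λ R] [Algebra R Ω]
    {E : Type u} [CommRing E] [Algebra R E] [Algebra (R ⊗[Λ] Ω) E] [IsScalarTower R (R ⊗[Λ] Ω) E]
    [Algebra.Etale (R ⊗[Λ] Ω) E]
    (hsurj : Function.Surjective (algebraMap Λ k))
    (ε : E →ₐ[R] Ω) (I : Ideal (E ⊗[R] E))
    (hrefl : ∀ (L : Type u) [Field L] [IsAlgClosed L] (a : E →+* L), IsGoodPair I a a rfl)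
    (htrans : ∀ (L : Type u) [Field L] [IsAlgClosed L] (a c a' : E →+* L)
      (h : a.comp (algebraMap R E) = c.comp (algebraMap R E))
      (h' : a'.comp (algebraMap R E) = c.comp (algebraMap R E)),
      IsGoodPair I a c h → IsGoodPair I a' c h' → IsGoodPair I a a' (h.trans h'.symm)) :
    ∃ (R' : Type u) (_ : CommRing R') (_ : Algebra R R') (_ : Algebra.Etale R R')
      (α' : R' →ₐ[R] Ω) (h : R' ⊗[R] E),
      Algebra.TensorProduct.productMap α' ε h ≠ 0 ∧
      ∀ (L : Type u) [Field L] (a c : R' ⊗[R] E →+* L),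
        (∀ x : R', a (x ⊗ₜ 1) = c (x ⊗ₜ 1)) → a h ≠ 0 → c h ≠ 0 →
        ∀ hac, IsGoodPair I
          (a.comp (Algebra.TensorProduct.includeRight : E →ₐ[R] R' ⊗[R] E).toRingHom)
          (c.comp (Algebra.TensorProduct.includeRight : E →ₐ[R] R' ⊗[R] E).toRingHom) hac := by
  classical
  let B := Lim R Ω
  let εB : B ⊗[R] E →ₐ[R] Ω := Algebra.TensorProduct.productMap (Lim.α R Ω) ε
  let z : Ideal (B ⊗[R] E) := RingHom.ker εB
  have : z.IsPrime := RingHom.ker_isPrime _
  have hz : z.comap (Algebra.TensorProduct.includeLeftRingHom : B →+* B ⊗[R] E) = maximalIdeal B := by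
    rw [maximalIdeal_eq_ker]
    ext b
    simp [z, εB]
  let M := B ⊗[R] (E ⊗[R] E)
  letI instM : CommRing M := (Algebra.TensorProduct.instCommRing : CommRing (B ⊗[R] (E ⊗[R] E)))
  let IM : Ideal M := I.map (Algebra.TensorProduct.includeRight : E ⊗[R] E →ₐ[R] M)
  let S : Submonoid M := z.primeCompl.map (j₁ R B) ⊔ z.primeCompl.map (j₂ R B)
  have hne : ¬ Disjoint (IM : Set M) (S : Set M) := by
    intro hdis
    obtain ⟨P, hP, hle, hPS⟩ := Ideal.exists_le_prime_disjoint IM S hdis
    let L := AlgebraicClosure (FractionRing (M ⧸ P))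
    let π : M →+* L := ((algebraMap (FractionRing (M ⧸ P)) L).comp
      (algebraMap (M ⧸ P) (FractionRing (M ⧸ P)))).comp (Ideal.Quotient.mk P)
    have hπ : ∀ x, π x = 0 → x ∈ P := fun x hx =>
      Ideal.Quotient.eq_zero_iff_mem.1 (IsFractionRing.injective (M ⧸ P) (FractionRing (M ⧸ P))
        (((algebraMap (FractionRing (M ⧸ P)) L).injective (hx.trans (map_zero _).symm)).trans
          (map_zero _).symm))
    let u : B ⊗[R] E →+* L := π.comp (j₁ R B).toRingHom
    let u' : B ⊗[R] E →+* L := π.comp (j₂ R B).toRingHom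
    have hku : RingHom.ker u ≤ z := fun x hx => by
      by_contra hxz
      exact Set.disjoint_left.1 hPS (hπ _ hx)
        (Submonoid.mem_sup_left (Submonoid.mem_map_of_mem _ hxz))
    have hku' : RingHom.ker u' ≤ z := fun x hx => by
      by_contra hxz
      exact Set.disjoint_left.1 hPS (hπ _ hx)
        (Submonoid.mem_sup_right (Submonoid.mem_map_of_mem _ hxz))
    obtain ⟨T, _, _, ι, γ, s, s', hs, hs', hγ, hsγ, hs'γ⟩ :=
      exists_link (k := k) (Ω := Ω) hsurj z hz u u' (fun b => by simp [u, u']) hku hku'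
    let incl := (Algebra.TensorProduct.includeRight : E →ₐ[R] B ⊗[R] E).toRingHom
    let a := u.comp incl
    let a' := u'.comp incl
    have hR : a'.comp (algebraMap R E) = a.comp (algebraMap R E) := RingHom.ext fun r => by
      change u' (1 ⊗ₜ algebraMap R E r) = u (1 ⊗ₜ algebraMap R E r)
      rw [Algebra.algebraMap_eq_smul_one, ← TensorProduct.smul_tmul]
      simp only [u, u', RingHom.comp_apply]
      change π (j₂ R B _) = π (j₁ R B _)
      simp
    have hγR : (ι.comp a).comp (algebraMap R E) = γ.comp (algebraMap R E) :=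
      RingHom.ext fun r => (hγ r).symm
    have hγR' : (ι.comp a').comp (algebraMap R E) = γ.comp (algebraMap R E) := by
      rw [RingHom.comp_assoc, hR, ← RingHom.comp_assoc, hγR]
    let Φ := AlgebraicClosure (FractionRing T)
    let σ : T →+* Φ := (algebraMap (FractionRing T) Φ).comp (algebraMap T (FractionRing T))
    have hσ : Function.Injective σ :=
      (algebraMap (FractionRing T) Φ).injective.comp (IsFractionRing.injective T _)
    let aΦ := σ.comp (ι.comp a)
    let aΦ' := σ.comp (ι.comp a')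
    let γΦ := σ.comp γ
    have c1 : aΦ.comp (algebraMap R E) = γΦ.comp (algebraMap R E) := by
      simp only [aΦ, γΦ, RingHom.comp_assoc] at *
      rw [hγR]
    have c2 : aΦ'.comp (algebraMap R E) = γΦ.comp (algebraMap R E) := by
      simp only [aΦ', γΦ, RingHom.comp_assoc] at *
      rw [hγR']
    have g1 : IsGoodPair I aΦ γΦ c1 :=
      isGoodPair_of_injective σ hσ hγR c1 (fun _ => rfl) (fun _ => rfl)
        (isGoodPair_mono s hγR rfl (fun e => RingHom.congr_fun hs (a e)) (fun e => hsγ e) (hrefl L a))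
    have g2 : IsGoodPair I aΦ' γΦ c2 :=
      isGoodPair_of_injective σ hσ hγR' c2 (fun _ => rfl) (fun _ => rfl)
        (isGoodPair_mono s' hγR' rfl (fun e => RingHom.congr_fun hs' (a' e)) (fun e => hs'γ e)
          (hrefl L a'))
    have g3 := htrans Φ aΦ γΦ aΦ' c1 c2 g1 g2
    have hfin : IsGoodPair I a a' hR.symm :=
      isGoodPair_mono (σ.comp ι) hR.symm (c1.trans c2.symm) (fun _ => rfl) (fun _ => rfl) g3
    refine hfin fun x hx => ?_
    have e : ∀ y, tlift a a' hR.symm y = π ((1 : B) ⊗ₜ y) := fun y => by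
      induction y using TensorProduct.induction_on with
      | zero => simp
      | tmul e₁ e₂ =>
        rw [tlift_tmul]
        change π (j₁ R B ((1 : B) ⊗ₜ e₁)) * π (j₂ R B ((1 : B) ⊗ₜ e₂)) = _
        rw [← map_mul]
        congr 1
        erw [Algebra.TensorProduct.tmul_mul_tmul, Algebra.TensorProduct.tmul_mul_tmul]
        simp
      | add y₁ y₂ h₁ h₂ => rw [map_add, h₁, h₂, TensorProduct.tmul_add, map_add]
    rw [RingHom.mem_ker, e]
    have hmem : (1 : B) ⊗ₜ[R] x ∈ P := hle (Ideal.mem_map_of_mem _ hx)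
    change (algebraMap (FractionRing (M ⧸ P)) L) (algebraMap (M ⧸ P) _ (Ideal.Quotient.mk P _)) = 0
    rw [Ideal.Quotient.eq_zero_iff_mem.2 hmem, map_zero, map_zero]
  obtain ⟨x, hxI, hxS⟩ := Set.not_disjoint_iff.1 hne
  obtain ⟨_, ⟨h₁, hh₁, rfl⟩, _, ⟨h₂, hh₂, rfl⟩, rfl⟩ := Submonoid.mem_sup.1 hxS
  let h := h₁ * h₂
  have hh : εB h ≠ 0 := by
    rw [map_mul]
    exact mul_ne_zero hh₁ hh₂
  have hmem : j₁ R B h * j₂ R B h ∈ IM := by
    have e : j₁ R B h * j₂ R B h = (j₁ R B h₁ * j₂ R B h₂) * (j₁ R B h₂ * j₂ R B h₁) := by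
      simp only [h, map_mul]; ring
    rw [e]
    exact Ideal.mul_mem_right _ _ hxI
  obtain ⟨n, c, g, hg⟩ := (Submodule.mem_span_set').1 hmem
  choose gi hgi hgi' using fun i => (g i).2
  obtain ⟨N, -, hN⟩ := (Stage.base (R := R) (Ω := Ω)).tensor_exists_range E {h}
  obtain ⟨hN', hhN'⟩ := hN (Finset.mem_singleton_self h)
  obtain ⟨K, ⟨ψ⟩, hK⟩ := N.tensor_exists_range (E ⊗[R] E) (Finset.univ.image c)
  choose c' hc' using fun i => hK (Finset.mem_image_of_mem c (Finset.mem_univ i))
  let hK' := tmap E ψ.1 hN'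
  have hhK : tmap E K.toLim hK' = h := by
    rw [tmap_tmap, show K.toLim.comp ψ.1 = N.toLim from ψ.2]
    exact hhN'
  let zK := j₁ R K.S hK' * j₂ R K.S hK' - ∑ i, c' i * ((1 : K.S) ⊗ₜ[R] gi i)
  have hzK : tmap (E ⊗[R] E) K.toLim zK = 0 := by
    rw [map_sub, map_mul, tmap_j₁, tmap_j₂, hhK, map_sum, sub_eq_zero, ← hg]
    refine Finset.sum_congr rfl fun i _ => ?_
    rw [smul_eq_mul, map_mul, hc', ← hgi' i]
    simp
  obtain ⟨Q, φ, hQ⟩ := K.tensor_exists_eq_zero₁ (E ⊗[R] E) zK hzK
  let hQ' := tmap E φ.1 hK'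
  refine ⟨Q.S, inferInstance, inferInstance, inferInstance, (Lim.α R Ω).comp Q.toLim, hQ', ?_, ?_⟩
  · have e : ∀ y, Algebra.TensorProduct.productMap ((Lim.α R Ω).comp Q.toLim) ε y =
        εB (tmap E Q.toLim y) := fun y => by
      induction y using TensorProduct.induction_on with
      | zero => simp
      | tmul p q => simp [εB]
      | add y₁ y₂ h₁ h₂ => simp only [map_add, h₁, h₂]
    rw [e, tmap_tmap, show Q.toLim.comp φ.1 = K.toLim from φ.2, hhK]
    exact hh
  intro L _ a b hab ha hb hac hle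
  let aE := a.comp (Algebra.TensorProduct.includeRight : E →ₐ[R] Q.S ⊗[R] E).toRingHom
  let bE := b.comp (Algebra.TensorProduct.includeRight : E →ₐ[R] Q.S ⊗[R] E).toRingHom
  let pp : Q.S ⊗[R] (E ⊗[R] E) →+* L :=
    tlift (a.comp Algebra.TensorProduct.includeLeftRingHom) (tlift aE bE hac) (RingHom.ext fun r => by
      change a (algebraMap R Q.S r ⊗ₜ 1) = tlift aE bE hac (algebraMap R (E ⊗[R] E) r)
      rw [Algebra.TensorProduct.algebraMap_apply, tlift_tmul, map_one, mul_one]
      change _ = a (1 ⊗ₜ algebraMap R E r)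
      rw [Algebra.algebraMap_eq_smul_one, Algebra.algebraMap_eq_smul_one, TensorProduct.smul_tmul])
  have e₁ : ∀ y, pp (j₁ R Q.S y) = a y := fun y => by
    induction y using TensorProduct.induction_on with
    | zero => simp
    | tmul p q =>
      simp only [Algebra.TensorProduct.map_tmul, AlgHom.coe_id, id_eq,
        Algebra.TensorProduct.includeLeft_apply]
      change a (p ⊗ₜ 1) * (a (1 ⊗ₜ q) * b (1 ⊗ₜ 1)) = _
      rw [← Algebra.TensorProduct.one_def, map_one, mul_one, ← map_mul]
      simp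
    | add y₁ y₂ h₁ h₂ => simp only [map_add, h₁, h₂]
  have e₂ : ∀ y, pp (j₂ R Q.S y) = b y := fun y => by
    induction y using TensorProduct.induction_on with
    | zero => simp
    | tmul p q =>
      simp only [Algebra.TensorProduct.map_tmul, AlgHom.coe_id, id_eq,
        Algebra.TensorProduct.includeRight_apply]
      change a (p ⊗ₜ 1) * (a (1 ⊗ₜ 1) * b (1 ⊗ₜ q)) = _
      rw [← Algebra.TensorProduct.one_def, map_one, one_mul, hab, ← map_mul]
      simp
    | add y₁ y₂ h₁ h₂ => simp only [map_add, h₁, h₂]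
  have hzero := congrArg pp hQ
  rw [map_zero, map_sub, map_mul, tmap_j₁, tmap_j₂, map_sub, map_mul, e₁, e₂, map_sum, map_sum,
    Finset.sum_eq_zero, sub_zero] at hzero
  · exact mul_ne_zero ha hb hzero
  intro i _
  rw [map_mul, map_mul]
  have h0 : pp (tmap (E ⊗[R] E) φ.1 ((1 : K.S) ⊗ₜ[R] gi i)) = 0 := by
    rw [Algebra.TensorProduct.map_tmul, map_one]
    change a ((1 : Q.S) ⊗ₜ 1) * tlift aE bE hac (gi i) = 0
    rw [RingHom.mem_ker.1 (hle (hgi i)), mul_zero]
  rw [h0, mul_zero]

end Groth.Agent.Lib.EtDiscrete
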