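import Groth.Prelude.Def_SGA4b
import Groth.Agent.S0754
import Mathlib.AlgebraicGeometry.Morphisms.WeaklyEtale
import Mathlib.AlgebraicGeometry.Morphisms.Flat
import Mathlib.AlgebraicGeometry.Morphisms.ClosedImmersion

/-!
# Maps of strict localizations over a discrete scheme are universally submersive
-/

set_option autoImplicit false

universe u

open CategoryTheory CategoryTheory.Limits AlgebraicGeometry

noncomputable section

namespace Groth.Agent.Lib.EtDiscrete

/-- Universal submersiveness is detected after a surjective closed immersion into the base. -/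
theorem isUnivSubmersive_of_flat {A B T' : Scheme.{u}} (h : A ⟶ B) [QuasiCompact h] [Surjective h]
    (q : T' ⟶ B) [IsClosedImmersion q] [Surjective q] [Flat (pullback.snd h q)] :
    EtDesc.IsUnivSubmersive h := by
  intro T k
  refine ⟨(pullback.snd h k).surjective, ?_⟩
  let qT := pullback.fst k q
  let a := pullback.snd (pullback.snd h k) qT
  have e1 : qT ≫ k = pullback.snd k q ≫ q := pullback.condition
  have sq1 : IsPullback (pullback.fst (pullback.snd h k) qT ≫ pullback.fst h k) a h (qT ≫ k) :=
    (IsPullback.of_hasPullback (pullback.snd h k) qT).paste_horiz (IsPullback.of_hasPullback h k)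
  rw [e1] at sq1
  let m : pullback (pullback.snd h k) qT ⟶ pullback h q :=
    pullback.lift (pullback.fst (pullback.snd h k) qT ≫ pullback.fst h k) (a ≫ pullback.snd k q)
      (by rw [sq1.w, Category.assoc])
  have sq2 : IsPullback m a (pullback.snd h q) (pullback.snd k q) := by
    refine IsPullback.of_right ?_ (pullback.lift_snd _ _ _) (IsPullback.of_hasPullback h q)
    rw [pullback.lift_fst]
    exact sq1
  have : Flat a := MorphismProperty.of_isPullback sq2 ‹_›
  have hqT : Topology.IsQuotientMap qT.base :=
    IsClosedMap.isQuotientMap qT.isClosedEmbedding.isClosedMap qT.continuous qT.surjective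
  have ha : Topology.IsQuotientMap a.base := Flat.isQuotientMap_of_surjective a
  refine Topology.IsQuotientMap.of_comp (pullback.fst (pullback.snd h k) qT).continuous
    (pullback.snd h k).continuous ?_
  have := hqT.comp ha
  rw [← TopCat.coe_comp, ← Scheme.Hom.comp_base] at this ⊢
  rw [pullback.condition]
  exact this

variable {X Y X₁ Y₁ : Scheme.{u}} {g : X ⟶ Y} {g₁ : X₁ ⟶ Y₁} {b' : X₁ ⟶ X} {b : Y₁ ⟶ Y}

/-- The map of strict localizations of a base change of a morphism to a discrete scheme is
universally submersive. -/
theorem isUnivSubmersive_localizations [DiscreteTopology Y] (sq : IsPullback b' g₁ g b)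
    {RY RX : Type u} [CommRing RY] [CommRing RX] [IsLocalRing RY] [IsLocalRing RX]
    [Algebra RY RX] [IsLocalHom (algebraMap RY RX)]
    (jY : Spec (CommRingCat.of RY) ⟶ Y₁) (jX : Spec (CommRingCat.of RX) ⟶ X₁)
    [WeaklyEtale jY] [WeaklyEtale jX]
    (hw : jX ≫ g₁ = Spec.map (CommRingCat.ofHom (algebraMap RY RX)) ≫ jY) :
    EtDesc.IsUnivSubmersive (Spec.map (CommRingCat.ofHom (algebraMap RY RX))) := by
  let h := Spec.map (CommRingCat.ofHom (algebraMap RY RX))
  let cB : Spec (CommRingCat.of RY) := IsLocalRing.closedPoint RY
  let y := (jY ≫ b).base cB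
  have hy : IsClosed ({y} : Set Y) := isClosed_discrete _
  have := isClosed_singleton_iff_isClosedImmersion.1 hy
  let i := Y.fromSpecResidueField y
  let s := jY ≫ b
  let q := pullback.fst s i
  have hconst : ∀ z, s.base z = y := fun z => by
    have := (IsLocalRing.specializes_closedPoint (R := RY) z).map s.continuous
    exact this.eq
  have hqs : Surjective q := by
    refine ⟨fun z => ?_⟩
    have hz : z ∈ Set.range q.base := by
      rw [Scheme.Pullback.range_fst, Set.mem_preimage, Scheme.range_fromSpecResidueField]
      exact hconst z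
    exact hz
  -- flatness over the reduction
  let W₀ := pullback g₁ jY
  let r₀ : Spec (CommRingCat.of RX) ⟶ W₀ := pullback.lift jX h hw
  let p₂ := pullback.snd g₁ jY
  have : WeaklyEtale (r₀ ≫ pullback.fst g₁ jY) := by rw [pullback.lift_fst]; infer_instance
  have : WeaklyEtale (pullback.fst g₁ jY) := MorphismProperty.pullback_fst _ _ ‹_›
  have : WeaklyEtale r₀ := WeaklyEtale.of_comp r₀ (pullback.fst g₁ jY)
  have sqW : IsPullback (pullback.fst g₁ jY ≫ b') p₂ g s :=
    (IsPullback.of_hasPullback g₁ jY).paste_horiz sq
  have sqP : IsPullback (pullback.fst p₂ q ≫ pullback.fst g₁ jY ≫ b') (pullback.snd p₂ q) g (q ≫ s) :=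
    (IsPullback.of_hasPullback p₂ q).paste_horiz sqW
  rw [show q ≫ s = pullback.snd s i ≫ i from pullback.condition] at sqP
  have : Flat (pullback.snd p₂ q) := by
    let m : pullback p₂ q ⟶ pullback g i :=
      pullback.lift (pullback.fst p₂ q ≫ pullback.fst g₁ jY ≫ b') (pullback.snd p₂ q ≫ pullback.snd s i)
        (by rw [sqP.w, Category.assoc])
    have sq2 : IsPullback m (pullback.snd p₂ q) (pullback.snd g i) (pullback.snd s i) := by
      refine IsPullback.of_right ?_ (pullback.lift_snd _ _ _) (IsPullback.of_hasPullback g i)
      rw [pullback.lift_fst]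
      exact sqP
    have : Subsingleton ↥(Spec (Y.residueField y)) :=
      inferInstanceAs (Subsingleton (PrimeSpectrum (Y.residueField y)))
    exact MorphismProperty.of_isPullback sq2 (inferInstance : Flat (pullback.snd g i))
  have hflat : Flat (pullback.snd h q) := by
    let m : pullback h q ⟶ pullback p₂ q :=
      pullback.lift (pullback.fst h q ≫ r₀) (pullback.snd h q) (by
        rw [Category.assoc, pullback.lift_snd]; exact pullback.condition)
    have sq3 : IsPullback (pullback.fst h q) m r₀ (pullback.fst p₂ q) := by
      refine IsPullback.of_bot ?_ (pullback.lift_fst _ _ _).symm (IsPullback.of_hasPullback p₂ q)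
      rw [pullback.lift_snd, pullback.lift_snd]
      exact IsPullback.of_hasPullback h q
    have : Flat m := MorphismProperty.of_isPullback sq3 inferInstance
    rw [show pullback.snd h q = m ≫ pullback.snd p₂ q from (pullback.lift_snd _ _ _).symm]
    infer_instance
  have : Surjective h := by
    refine ⟨fun z => ?_⟩
    have hc : h.base (IsLocalRing.closedPoint RX) = cB :=
      IsLocalRing.comap_closedPoint (algebraMap RY RX)
    obtain ⟨z', hz'⟩ := q.surjective z
    obtain ⟨c', hc'⟩ := q.surjective cB
    have hsp : z' ⤳ c' := q.isClosedEmbedding.isInducing.specializes_iff.1 (by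
      rw [hz', hc']
      exact IsLocalRing.specializes_closedPoint (R := RY) z)
    obtain ⟨w, hw₁, hw₂⟩ := Scheme.Pullback.exists_preimage_pullback (f := h) (g := q)
      (IsLocalRing.closedPoint RX) c' (hc.trans hc'.symm)
    obtain ⟨w', -, hw'⟩ := Flat.generalizingMap (pullback.snd h q) (hw₂ ▸ hsp)
    refine ⟨(pullback.fst h q).base w', ?_⟩
    rw [← Scheme.Hom.comp_apply, pullback.condition, Scheme.Hom.comp_apply, hw', hz']
  exact isUnivSubmersive_of_flat h q

end Groth.Agent.Lib.EtDiscrete
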